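import Mathlib

/-! A fixed-point estimate for irreducible modules of `p`-groups, `p` odd. -/

set_option autoImplicit false

namespace CfsgLib.CoprCore

variable {V : Type*} [CommGroup V]

/-- The fixed points of an automorphism. -/
def fixS (α : MulAut V) : Subgroup V where
  carrier := {v | α v = v}
  mul_mem' := by
    intro a b ha hb
    show α (a * b) = a * b
    rw [map_mul, show α a = a from ha, show α b = b from hb]
  one_mem' := map_one α
  inv_mem' := by
    intro a ha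
    show α a⁻¹ = a⁻¹
    rw [map_inv, show α a = a from ha]

theorem mem_fixS {α : MulAut V} {v : V} : v ∈ fixS α ↔ α v = v := Iff.rfl

theorem pair_zero (s₁ s₂ : V) (hs : s₁ * s₂ = 1) (a b X : MulAut V) (h1 : X s₁ = a s₁)
    (h2 : X s₂ = b s₂) (hinj : ∀ v, b v = a v → v = 1) : s₂ = 1 := by
  apply hinj
  have h3 : s₁ = s₂⁻¹ := eq_inv_of_mul_eq_one_left hs
  have h4 := congrArg X hs
  rw [map_mul, map_one, h1, h2, h3, map_inv, mul_comm] at h4
  exact mul_inv_eq_one.mp h4

/-- Three "eigen-components" are independent. -/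
theorem three_indep (w X : MulAut V) (hw1 : ∀ v, w v = v → v = 1) (hw2 : ∀ v, w (w v) = v → v = 1)
    (hXw : ∀ v, X (w v) = w (X v)) (t₀ t₁ t₂ : V) (h0 : X t₀ = t₀) (h1 : X t₁ = w t₁)
    (h2 : X t₂ = w (w t₂)) (h : t₀ * t₁ * t₂ = 1) : t₀ = 1 ∧ t₁ = 1 ∧ t₂ = 1 := by
  have e1 : t₀ * w t₁ * w (w t₂) = 1 := by
    have := congrArg X h
    rwa [map_mul, map_mul, map_one, h0, h1, h2] at this
  obtain ⟨s₁, hs₁⟩ : ∃ s₁, s₁ = w t₁ * t₁⁻¹ := ⟨_, rfl⟩
  obtain ⟨s₂, hs₂⟩ : ∃ s₂, s₂ = w (w t₂) * t₂⁻¹ := ⟨_, rfl⟩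
  have hss : s₁ * s₂ = 1 := by
    rw [hs₁, hs₂]
    calc w t₁ * t₁⁻¹ * (w (w t₂) * t₂⁻¹) = (t₀ * w t₁ * w (w t₂)) * (t₀ * t₁ * t₂)⁻¹ := by
          simp only [mul_inv_rev]
          simp only [mul_assoc, mul_comm, mul_left_comm]
          rw [mul_inv_cancel_left]
      _ = 1 := by rw [e1, h, one_mul, inv_one]
  have hX1 : X s₁ = w s₁ := by
    rw [hs₁, map_mul, map_mul, hXw, h1, map_inv, h1, map_inv]
  have hX2 : X s₂ = (w * w) s₂ := by
    rw [hs₂, map_mul, map_mul, hXw, hXw, h2, map_inv, h2, map_inv]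
    rfl
  have hinj : ∀ v, (w * w) v = w v → v = 1 := by
    intro v hv
    have h3 : w (w v) = w v := hv
    exact hw1 v (w.injective h3)
  have hs₂1 : s₂ = 1 := pair_zero s₁ s₂ hss w (w * w) X hX1 hX2 hinj
  have hs₁1 : s₁ = 1 := by rw [hs₂1, mul_one] at hss; exact hss
  have ht₂ : t₂ = 1 := by
    apply hw2
    rw [hs₂] at hs₂1
    exact mul_inv_eq_one.mp hs₂1
  have ht₁ : t₁ = 1 := by
    apply hw1
    rw [hs₁] at hs₁1
    exact mul_inv_eq_one.mp hs₁1
  refine ⟨?_, ht₁, ht₂⟩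
  rw [ht₁, ht₂, mul_one, mul_one] at h
  exact h

variable [Finite V]

theorem card_fix_cube (y X w : MulAut V) (hw1 : ∀ v, w v = v → v = 1)
    (hw2 : ∀ v, w (w v) = v → v = 1) (hwX : w * X = X * w) (hwy : w * y = y * w)
    (hrel : X * y = w * y * X) : Nat.card (fixS X) ^ 3 ≤ Nat.card V := by
  let f : fixS X × fixS X × fixS X → V := fun u => u.1.1 * y u.2.1.1 * y (y u.2.2.1)
  have hXw : ∀ v, X (w v) = w (X v) := fun v => (DFunLike.congr_fun hwX v).symm
  have hXy : ∀ v, X (y v) = w (y (X v)) := fun v => DFunLike.congr_fun hrel v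
  have hwyv : ∀ v, w (y v) = y (w v) := fun v => DFunLike.congr_fun hwy v
  have hf : Function.Injective f := by
    rintro ⟨u₀, u₁, u₂⟩ ⟨v₀, v₁, v₂⟩ h
    have hu : ∀ u : fixS X, X u.1 = u.1 := fun u => u.2
    obtain ⟨r₀, hr₀⟩ : ∃ r₀ : fixS X, r₀ = u₀ * v₀⁻¹ := ⟨_, rfl⟩
    obtain ⟨r₁, hr₁⟩ : ∃ r₁ : fixS X, r₁ = u₁ * v₁⁻¹ := ⟨_, rfl⟩
    obtain ⟨r₂, hr₂⟩ : ∃ r₂ : fixS X, r₂ = u₂ * v₂⁻¹ := ⟨_, rfl⟩
    have h1 : r₀.1 * y r₁.1 * y (y r₂.1) = 1 := by
      have h2 : (u₀ : V) * y u₁.1 * y (y u₂.1) = v₀.1 * y v₁.1 * y (y v₂.1) := h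
      rw [hr₀, hr₁, hr₂]
      simp only [Subgroup.coe_mul, Subgroup.coe_inv, map_mul, map_inv]
      calc (u₀ : V) * (v₀ : V)⁻¹ * (y u₁.1 * (y v₁.1)⁻¹) * (y (y u₂.1) * (y (y v₂.1))⁻¹)
          = ((u₀ : V) * y u₁.1 * y (y u₂.1)) * (v₀.1 * y v₁.1 * y (y v₂.1))⁻¹ := by
            simp only [mul_inv_rev]
            simp only [mul_assoc, mul_comm, mul_left_comm]
        _ = 1 := by rw [h2, mul_inv_cancel]
    have h3 := three_indep w X hw1 hw2 hXw r₀.1 (y r₁.1) (y (y r₂.1)) (hu r₀)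
      (by rw [hXy, hu r₁]) (by rw [hXy, hXy, hu r₂, ← hwyv (y r₂.1)]) h1
    have h4 : r₀ = 1 := Subtype.ext h3.1
    have h5 : r₁ = 1 := Subtype.ext (y.injective (by
      show y r₁.1 = y 1
      rw [h3.2.1, map_one]))
    have h6 : r₂ = 1 := Subtype.ext (y.injective (y.injective (by
      show y (y r₂.1) = y (y 1)
      rw [h3.2.2, map_one, map_one])))
    rw [h4, eq_comm, mul_inv_eq_one] at hr₀
    rw [h5, eq_comm, mul_inv_eq_one] at hr₁
    rw [h6, eq_comm, mul_inv_eq_one] at hr₂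
    rw [hr₀, hr₁, hr₂]
  have h1 := Nat.card_le_card_of_injective f hf
  rw [Nat.card_prod, Nat.card_prod] at h1
  calc Nat.card (fixS X) ^ 3 = Nat.card (fixS X) * (Nat.card (fixS X) * Nat.card (fixS X)) := by ring
    _ ≤ _ := h1

theorem core_trivial (p : ℕ) [Fact p.Prime] (hp3 : 3 ≤ p) (A : Subgroup (MulAut V))
    (hA : IsPGroup p A)
    (hirr : ∀ W : Subgroup V, (∀ a ∈ A, ∀ v ∈ W, a v ∈ W) → W = ⊥ ∨ W = ⊤)
    (C D : Set (MulAut V)) (hC : Subgroup.closure C = A) (hD : Subgroup.closure D = A)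
    (hfac : ∀ c ∈ C, ∀ d ∈ D, ∀ v : V, ∃ u w, c u = u ∧ d w = w ∧ v = u * w) : A = ⊥ := by
  classical
  haveI : Finite (MulAut V) := Finite.of_injective (fun f : MulAut V => (f : V → V)) DFunLike.coe_injective
  by_contra hne
  have hfix0 : ∀ z ∈ A, (∀ a ∈ A, a * z = z * a) → z ≠ 1 → ∀ v, z v = v → v = 1 := by
    intro z hz hzc hz1 v hv
    have h1 := hirr (fixS z) (by
      intro a ha u hu
      rw [mem_fixS] at hu ⊢
      have h2 := DFunLike.congr_fun (hzc a ha) u
      have h3 : a (z u) = z (a u) := h2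
      rw [← h3, hu])
    rcases h1 with h1 | h1
    · have h2 : v ∈ fixS z := hv
      rw [h1] at h2
      exact h2
    · exfalso
      apply hz1
      ext u
      have h2 : u ∈ fixS z := by rw [h1]; trivial
      exact h2
  have hsmall : Nat.card V ≤ 1 → ∀ α : MulAut V, α = 1 := by
    intro h α
    have h2 : Subsingleton V := by
      rcases Nat.lt_or_ge (Nat.card V) 1 with h3 | h3
      · have : Nat.card V = 0 := by omega
        have h4 := Nat.card_pos (α := V)
        omega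
      · exact (Nat.card_eq_one_iff_unique.mp (le_antisymm h h3)).1
    ext u
    exact Subsingleton.elim _ _
  have hCA : ∀ c ∈ C, c ∈ A := fun c hc => hC ▸ Subgroup.subset_closure hc
  have hDA : ∀ c ∈ D, c ∈ A := fun c hc => hD ▸ Subgroup.subset_closure hc
  by_cases hab : ∀ a ∈ A, ∀ b ∈ A, a * b = b * a
  · obtain ⟨c, hc, hc1⟩ : ∃ c ∈ C, c ≠ 1 := by
      by_contra h
      push Not at h
      apply hne
      rw [← hC, Subgroup.closure_eq_bot_iff]
      exact fun c hc => h c hc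
    obtain ⟨d, hd, hd1⟩ : ∃ d ∈ D, d ≠ 1 := by
      by_contra h
      push Not at h
      apply hne
      rw [← hD, Subgroup.closure_eq_bot_iff]
      exact fun c hc => h c hc
    apply hc1
    refine hsmall ?_ c
    have h1 : ∀ v : V, v = 1 := by
      intro v
      obtain ⟨u, w, hu, hw, rfl⟩ := hfac c hc d hd v
      rw [hfix0 c (hCA c hc) (fun a ha => hab a ha c (hCA c hc)) hc1 u hu,
        hfix0 d (hDA d hd) (fun a ha => hab a ha d (hDA d hd)) hd1 w hw, one_mul]
    haveI : Subsingleton V := ⟨fun a b => by rw [h1 a, h1 b]⟩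
    rw [Nat.card_of_subsingleton (1 : V)]
  · -- a noncentral element central modulo the centre
    haveI : Fact p.Prime := inferInstance
    have hZne : Subgroup.center A ≠ ⊤ := by
      intro h
      apply hab
      intro a ha b hb
      have h1 : (⟨b, hb⟩ : A) ∈ Subgroup.center A := by rw [h]; trivial
      have h2 := (Subgroup.mem_center_iff.mp h1) ⟨a, ha⟩
      exact congrArg Subtype.val h2
    haveI : Nontrivial (A ⧸ Subgroup.center A) := by
      rw [QuotientGroup.nontrivial_iff]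
      exact hZne
    have hQp : IsPGroup p (A ⧸ Subgroup.center A) := hA.to_quotient _
    haveI := hQp.center_nontrivial
    obtain ⟨ybar, hy1⟩ := exists_ne (1 : Subgroup.center (A ⧸ Subgroup.center A))
    obtain ⟨y, hyb⟩ := QuotientGroup.mk_surjective ybar.1
    have hynot : y ∉ Subgroup.center A := by
      intro h
      apply hy1
      apply Subtype.ext
      rw [← hyb]
      exact (QuotientGroup.eq_one_iff y).mpr h
    have hycomm : ∀ a : A, a * y * a⁻¹ * y⁻¹ ∈ Subgroup.center A := by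
      intro a
      have h1 := Subgroup.mem_center_iff.mp ybar.2 (a : A ⧸ Subgroup.center A)
      rw [← hyb, ← QuotientGroup.mk_mul, ← QuotientGroup.mk_mul, QuotientGroup.eq] at h1
      have h2 := (inferInstance : (Subgroup.center A).Normal).conj_mem _ h1 (a * y)
      have h3 : a * y * ((a * y)⁻¹ * (y * a)) * (a * y)⁻¹ = y * a * (a * y)⁻¹ := by group
      rw [h3] at h2
      have h4 := (Subgroup.center A).inv_mem h2
      have h5 : (y * a * (a * y)⁻¹)⁻¹ = a * y * a⁻¹ * y⁻¹ := by group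
      rwa [h5] at h4
    -- generators outside the centraliser of y
    have hout : ∀ E : Set (MulAut V), Subgroup.closure E = A → ∃ e ∈ E, e * y.1 ≠ y.1 * e := by
      intro E hE
      by_contra h
      push Not at h
      apply hynot
      rw [Subgroup.mem_center_iff]
      intro a
      have hle0 : Subgroup.closure E ≤ Subgroup.centralizer ({y.1} : Set (MulAut V)) := by
        rw [Subgroup.closure_le]
        intro e he
        rw [SetLike.mem_coe, Subgroup.mem_centralizer_iff]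
        intro u hu
        rw [Set.mem_singleton_iff.mp hu]
        exact (h e he).symm
      have hle : A ≤ Subgroup.centralizer ({y.1} : Set (MulAut V)) :=
        fun u hu => hle0 (by rw [hE]; exact hu)
      have h1 := Subgroup.mem_centralizer_iff.mp (hle a.2) y.1 rfl
      exact Subtype.ext h1.symm
    have hkey : ∀ X ∈ A, X * y.1 ≠ y.1 * X → Nat.card (fixS X) ^ 3 ≤ Nat.card V := by
      intro X hX hXy
      obtain ⟨w, hwd⟩ : ∃ w : A, w = (⟨X, hX⟩ : A) * y * (⟨X, hX⟩ : A)⁻¹ * y⁻¹ := ⟨_, rfl⟩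
      have hwc : w ∈ Subgroup.center A := hwd ▸ hycomm _
      have hw1 : w ≠ 1 := by
        intro h
        rw [h] at hwd
        apply hXy
        have h2 : (⟨X, hX⟩ : A) * y = y * (⟨X, hX⟩ : A) := by
          have h3 : (⟨X, hX⟩ : A) * y * (⟨X, hX⟩ : A)⁻¹ * y⁻¹ = 1 := hwd.symm
          rw [mul_inv_eq_one, mul_inv_eq_iff_eq_mul] at h3
          exact h3
        exact congrArg Subtype.val h2
      have hw2 : w * w ≠ 1 := by
        intro h
        obtain ⟨k, hk⟩ := hA w
        have h3 : orderOf w ∣ 2 := orderOf_dvd_of_pow_eq_one (by rw [sq, h])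
        have h4 : orderOf w ∣ p ^ k := orderOf_dvd_of_pow_eq_one hk
        have h5 : Nat.Coprime 2 (p ^ k) := by
          apply Nat.Coprime.pow_right
          rw [Nat.coprime_primes Nat.prime_two Fact.out]
          omega
        have h6 : orderOf w = 1 := Nat.Coprime.eq_one_of_dvd (h5.coprime_dvd_left h3) h4
        exact hw1 (orderOf_eq_one_iff.mp h6)
      have hcentral : ∀ z : A, z ∈ Subgroup.center A → ∀ a ∈ A, a * z.1 = z.1 * a := by
        intro z hz a ha
        have h1 := (Subgroup.mem_center_iff.mp hz) ⟨a, ha⟩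
        exact congrArg Subtype.val h1
      have hwf : ∀ v, w.1 v = v → v = 1 :=
        hfix0 w.1 w.2 (hcentral w hwc) (fun h => hw1 (Subtype.ext h))
      have hwwf : ∀ v, w.1 (w.1 v) = v → v = 1 :=
        hfix0 (w * w).1 (w * w).2 (hcentral (w * w) (mul_mem hwc hwc)) (fun h => hw2 (Subtype.ext h))
      have hrel : X * y.1 = w.1 * y.1 * X := by
        have h2 : (⟨X, hX⟩ : A) * y = w * y * (⟨X, hX⟩ : A) := by
          rw [hwd]
          group
        exact congrArg Subtype.val h2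
      exact card_fix_cube y.1 X w.1 hwf hwwf (hcentral w hwc X hX).symm (hcentral w hwc y.1 y.2).symm hrel
    obtain ⟨c, hc, hcy⟩ := hout C hC
    obtain ⟨d, hd, hdy⟩ := hout D hD
    have h1 := hkey c (hCA c hc) hcy
    have h2 := hkey d (hDA d hd) hdy
    have h3 : Nat.card V ≤ Nat.card (fixS c) * Nat.card (fixS d) := by
      rw [← Nat.card_prod]
      have hs : Function.Surjective (fun u : fixS c × fixS d => u.1.1 * u.2.1) := by
        intro v
        obtain ⟨u, w, hu, hw, rfl⟩ := hfac c hc d hd v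
        exact ⟨(⟨u, hu⟩, ⟨w, hw⟩), rfl⟩
      exact Nat.card_le_card_of_surjective _ hs
    have h4 : Nat.card V ≤ 1 := by
      have h5 : 0 < Nat.card V := Nat.card_pos
      by_contra h6
      push Not at h6
      have h7 : (Nat.card V) ^ 3 ≤ (Nat.card V) ^ 2 := by
        calc (Nat.card V) ^ 3 ≤ (Nat.card (fixS c) * Nat.card (fixS d)) ^ 3 := Nat.pow_le_pow_left h3 3
          _ = Nat.card (fixS c) ^ 3 * Nat.card (fixS d) ^ 3 := by ring
          _ ≤ Nat.card V * Nat.card V := Nat.mul_le_mul h1 h2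
          _ = (Nat.card V) ^ 2 := by ring
      have h8 : (Nat.card V) ^ 2 < (Nat.card V) ^ 3 := Nat.pow_lt_pow_right h6 (by norm_num)
      omega
    have h9 := hsmall h4 c
    apply hcy
    rw [h9, one_mul, mul_one]

end CfsgLib.CoprCore
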