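import Mathlib
import Cfsg.Agent.Lib.ClassMax.CoprCore

/-! Reduction of the coprime statement to the fixed point estimate. -/

set_option autoImplicit false

namespace CfsgLib.CoprCore

open scoped Pointwise

theorem core_trivial' {V : Type*} [Group V] [Finite V] (hcomm : ∀ a b : V, a * b = b * a)
    (p : ℕ) [Fact p.Prime] (hp3 : 3 ≤ p) (A : Subgroup (MulAut V)) (hA : IsPGroup p A)
    (hirr : ∀ W : Subgroup V, (∀ a ∈ A, ∀ v ∈ W, a v ∈ W) → W = ⊥ ∨ W = ⊤)
    (C D : Set (MulAut V)) (hC : Subgroup.closure C = A) (hD : Subgroup.closure D = A)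
    (hfac : ∀ c ∈ C, ∀ d ∈ D, ∀ v : V, ∃ u w, c u = u ∧ d w = w ∧ v = u * w) : A = ⊥ := by
  letI : CommGroup V := { (inferInstance : Group V) with mul_comm := hcomm }
  exact core_trivial p hp3 A hA hirr C D hC hD hfac

section action

variable {T Γ : Type*} [Group T] [Group Γ] [MulDistribMulAction Γ T]

/-- `L` is invariant. -/
def IsInv (Γ : Type*) [Group Γ] {T : Type*} [Group T] [MulDistribMulAction Γ T] (L : Subgroup T) : Prop :=
  ∀ (γ : Γ), ∀ t ∈ L, γ • t ∈ L

theorem map_act_eq (L : Subgroup T) (hL : IsInv Γ L) (γ : Γ) :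
    L.map (MulDistribMulAction.toMulAut Γ T γ).toMonoidHom = L := by
  ext x
  constructor
  · rintro ⟨t, ht, rfl⟩
    exact hL γ t ht
  · intro hx
    refine ⟨γ⁻¹ • x, hL γ⁻¹ x hx, ?_⟩
    show γ • (γ⁻¹ • x) = x
    rw [smul_inv_smul]

/-- The action on a quotient. -/
noncomputable def quotAct (L : Subgroup T) [L.Normal] (hL : IsInv Γ L) : Γ →* MulAut (T ⧸ L) :=
  MonoidHom.mk' (fun γ => QuotientGroup.congr L L (MulDistribMulAction.toMulAut Γ T γ) (map_act_eq L hL γ)) (by
    intro a b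
    ext x
    induction x using QuotientGroup.induction_on with
    | H t =>
      show ((((a * b) • t : T)) : T ⧸ L) = ((a • (b • t) : T) : T ⧸ L)
      rw [mul_smul])

theorem quotAct_mk (L : Subgroup T) [L.Normal] (hL : IsInv Γ L) (γ : Γ) (t : T) :
    quotAct L hL γ (t : T ⧸ L) = ((γ • t : T) : T ⧸ L) := rfl

variable [Finite T]

theorem thmB (p q : ℕ) [Fact p.Prime] [Fact q.Prime] (hp3 : 3 ≤ p) (hΓ : IsPGroup p Γ)
    (hT : IsPGroup q T) (hcop : (Nat.card T).Coprime p)
    (hprop : ∀ L : Subgroup T, L ≠ ⊤ → IsInv Γ L → ∀ (γ : Γ), ∀ t ∈ L, γ • t = t)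
    (C D : Set Γ) (hC : Subgroup.closure C = ⊤) (hD : Subgroup.closure D = ⊤)
    (hfac : ∀ c ∈ C, ∀ d ∈ D, ∀ x : T, ∃ y z, x = y * z ∧ d • y = y ∧ c • z = z) :
    ∀ (γ : Γ) (t : T), γ • t = t := by
  classical
  by_cases hnt : Subsingleton T
  · intro γ t
    exact Subsingleton.elim _ _
  haveI : Nontrivial T := not_subsingleton_iff_nontrivial.mp hnt
  let 𝒮 : Set (Subgroup T) := {L | L ≠ ⊤ ∧ L.Normal ∧ IsInv Γ L}
  have hbot : (⊥ : Subgroup T) ∈ 𝒮 := by
    refine ⟨bot_ne_top, inferInstance, ?_⟩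
    intro γ t ht
    rw [Subgroup.mem_bot] at ht ⊢
    rw [ht, smul_one]
  obtain ⟨L, ⟨hLt, hLn, hLi⟩, hLmax⟩ :=
    Set.exists_max_image 𝒮 (fun L : Subgroup T => Nat.card L) (Set.toFinite 𝒮) ⟨⊥, hbot⟩
  haveI := hLn
  have hmax : ∀ L' : Subgroup T, L' ≠ ⊤ → L'.Normal → IsInv Γ L' → L ≤ L' → L' = L := by
    intro L' h1 h2 h3 h4
    exact (Subgroup.eq_of_le_of_card_ge h4 (hLmax L' ⟨h1, h2, h3⟩)).symm
  obtain ⟨φ, hφ⟩ : ∃ φ, φ = quotAct L hLi := ⟨_, rfl⟩
  have hφmk : ∀ (γ : Γ) (t : T), φ γ (t : T ⧸ L) = ((γ • t : T) : T ⧸ L) := by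
    intro γ t
    rw [hφ]
    rfl
  haveI : Nontrivial (T ⧸ L) := QuotientGroup.nontrivial_iff.mpr hLt
  have hVq : IsPGroup q (T ⧸ L) := hT.to_quotient L
  haveI := hVq.center_nontrivial
  have hcomm : ∀ a b : T ⧸ L, a * b = b * a := by
    let Y : Subgroup T := (Subgroup.center (T ⧸ L)).comap (QuotientGroup.mk' L)
    have hYn : Y.Normal := Subgroup.Normal.comap inferInstance _
    have hYi : IsInv Γ Y := by
      intro γ t ht
      have ht' : (t : T ⧸ L) ∈ Subgroup.center (T ⧸ L) := ht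
      show ((γ • t : T) : T ⧸ L) ∈ Subgroup.center (T ⧸ L)
      rw [← hφmk, Subgroup.mem_center_iff]
      intro v
      obtain ⟨v', rfl⟩ := (φ γ).surjective v
      rw [← map_mul, ← map_mul, (Subgroup.mem_center_iff.mp ht') v']
    have hLY : L ≤ Y := by
      intro t ht
      show (t : T ⧸ L) ∈ Subgroup.center (T ⧸ L)
      rw [(QuotientGroup.eq_one_iff t).mpr ht]
      exact one_mem _
    have hY : Y = ⊤ := by
      by_contra hne
      have h1 := hmax Y hne hYn hYi hLY
      obtain ⟨z, hz⟩ := exists_ne (1 : Subgroup.center (T ⧸ L))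
      obtain ⟨t, ht⟩ := QuotientGroup.mk_surjective z.1
      apply hz
      apply Subtype.ext
      rw [← ht]
      have h2 : t ∈ Y := by
        show (t : T ⧸ L) ∈ Subgroup.center (T ⧸ L)
        rw [ht]
        exact z.2
      rw [h1] at h2
      exact (QuotientGroup.eq_one_iff t).mpr h2
    intro a b
    obtain ⟨t, rfl⟩ := QuotientGroup.mk_surjective a
    have h1 : t ∈ Y := by rw [hY]; trivial
    exact (Subgroup.mem_center_iff.mp h1 b).symm
  have hrange : φ.range = ⊥ := by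
    apply core_trivial' hcomm p hp3 φ.range (hΓ.of_surjective φ.rangeRestrict φ.rangeRestrict_surjective)
      ?_ (φ '' C) (φ '' D) ?_ ?_ ?_
    · intro W hW
      let W' : Subgroup T := W.comap (QuotientGroup.mk' L)
      by_cases hW' : W' = ⊤
      · right
        rw [eq_top_iff]
        intro v _
        obtain ⟨t, rfl⟩ := QuotientGroup.mk_surjective v
        have h1 : t ∈ W' := by rw [hW']; trivial
        exact h1
      · left
        have hnorm : W'.Normal := by
          constructor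
          intro n hn g
          show ((g * n * g⁻¹ : T) : T ⧸ L) ∈ W
          rw [QuotientGroup.mk_mul, QuotientGroup.mk_mul, hcomm (g : T ⧸ L) (n : T ⧸ L), mul_assoc,
            ← QuotientGroup.mk_mul, mul_inv_cancel, QuotientGroup.mk_one, mul_one]
          exact hn
        have hinv : IsInv Γ W' := by
          intro γ t ht
          show ((γ • t : T) : T ⧸ L) ∈ W
          rw [← hφmk]
          exact hW (φ γ) ⟨γ, rfl⟩ _ ht
        have hLW : L ≤ W' := by
          intro t ht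
          show (t : T ⧸ L) ∈ W
          rw [(QuotientGroup.eq_one_iff t).mpr ht]
          exact one_mem _
        have h1 := hmax W' hW' hnorm hinv hLW
        rw [eq_bot_iff]
        intro v hv
        obtain ⟨t, rfl⟩ := QuotientGroup.mk_surjective v
        have h2 : t ∈ W' := hv
        rw [h1] at h2
        rw [Subgroup.mem_bot]
        exact (QuotientGroup.eq_one_iff t).mpr h2
    · rw [← MonoidHom.map_closure, hC, MonoidHom.range_eq_map]
    · rw [← MonoidHom.map_closure, hD, MonoidHom.range_eq_map]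
    · rintro _ ⟨c, hc, rfl⟩ _ ⟨d, hd, rfl⟩ v
      obtain ⟨t, rfl⟩ := QuotientGroup.mk_surjective v
      obtain ⟨y, z, hyz, hdy, hcz⟩ := hfac c hc d hd t
      refine ⟨(z : T ⧸ L), (y : T ⧸ L), ?_, ?_, ?_⟩
      · rw [hφmk, hcz]
      · rw [hφmk, hdy]
      · rw [hyz, QuotientGroup.mk_mul, hcomm]
  intro γ t
  have h1 : φ γ = 1 := by
    have h2 : φ γ ∈ φ.range := ⟨γ, rfl⟩
    rw [hrange] at h2
    exact h2
  have h2 : ((γ • t : T) : T ⧸ L) = (t : T ⧸ L) := by
    rw [← hφmk, h1]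
    rfl
  obtain ⟨n, hn⟩ : ∃ n, n = t⁻¹ * (γ • t) := ⟨_, rfl⟩
  have hnL : n ∈ L := by
    rw [hn]
    exact QuotientGroup.eq.mp h2.symm
  have hγn : γ • n = n := hprop L hLt hLi γ n hnL
  have ht2 : γ • t = t * n := by rw [hn, mul_inv_cancel_left]
  have hpow : ∀ k : ℕ, γ ^ k • t = t * n ^ k := by
    intro k
    induction k with
    | zero => simp
    | succ k ih =>
      rw [pow_succ', mul_smul, ih, smul_mul', smul_pow', hγn, ht2, pow_succ', mul_assoc]
  obtain ⟨e, he⟩ := hΓ γ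
  have h3 := hpow (p ^ e)
  rw [he, one_smul] at h3
  have h4 : n ^ (p ^ e) = 1 := by
    have h5 : t * 1 = t * n ^ (p ^ e) := by rw [mul_one]; exact h3
    exact (mul_left_cancel h5).symm
  have h5 : orderOf n ∣ p ^ e := orderOf_dvd_of_pow_eq_one h4
  have h6 : orderOf n ∣ Nat.card T := orderOf_dvd_natCard n
  have h7 : Nat.Coprime (Nat.card T) (p ^ e) := hcop.pow_right e
  have h8 : orderOf n = 1 := Nat.Coprime.eq_one_of_dvd (h7.coprime_dvd_left h6) h5
  rw [orderOf_eq_one_iff] at h8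
  rw [ht2, h8, mul_one]

end action

section Glevel

variable {G : Type*} [Group G] [Finite G]

/-- The product of a subgroup and a subgroup normalising it. -/
def mulSub (M P : Subgroup G) (h : ∀ g ∈ P, ∀ m ∈ M, g * m * g⁻¹ ∈ M) : Subgroup G where
  carrier := {g | ∃ m ∈ M, ∃ r ∈ P, g = m * r}
  mul_mem' := by
    rintro _ _ ⟨m, hm, r, hr, rfl⟩ ⟨m', hm', r', hr', rfl⟩
    refine ⟨m * (r * m' * r⁻¹), M.mul_mem hm (h r hr m' hm'), r * r', P.mul_mem hr hr', by group⟩
  one_mem' := ⟨1, M.one_mem, 1, P.one_mem, by simp⟩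
  inv_mem' := by
    rintro _ ⟨m, hm, r, hr, rfl⟩
    refine ⟨r⁻¹ * m⁻¹ * r⁻¹⁻¹, h _ (P.inv_mem hr) _ (M.inv_mem hm), r⁻¹, P.inv_mem hr, by group⟩

theorem factor_in (p : ℕ) [Fact p.Prime] (P : Sylow p G) (N : Subgroup G) [hNn : N.Normal]
    (hN : (Nat.card N).Coprime p) (M : Subgroup G) (hMN : M ≤ N)
    (hMP : ∀ g ∈ (P : Subgroup G), ∀ m ∈ M, g * m * g⁻¹ ∈ M) (x c d : G) (hx : x ∈ M)
    (hc : c ∈ (P : Subgroup G)) (hd : d ∈ (P : Subgroup G))
    (h : IsPGroup p ↥(Subgroup.closure ({x * c * x⁻¹, d} : Set G))) :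
    ∃ y ∈ M, ∃ z ∈ M, x = y * z ∧ y * d = d * y ∧ z * c = c * z := by
  classical
  have hdisj : ∀ u, u ∈ N → u ∈ (P : Subgroup G) → u = 1 := by
    intro u hu hu2
    obtain ⟨e, he⟩ := P.isPGroup' ⟨u, hu2⟩
    have h1 : u ^ (p ^ e) = 1 := by
      have := congrArg Subtype.val he
      simpa using this
    have h2 : orderOf u ∣ p ^ e := orderOf_dvd_of_pow_eq_one h1
    have h3 : orderOf u ∣ Nat.card N := Subgroup.orderOf_dvd_natCard N hu
    have h4 : orderOf u = 1 := Nat.Coprime.eq_one_of_dvd ((hN.pow_right e).coprime_dvd_left h3) h2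
    exact orderOf_eq_one_iff.mp h4
  let G₁ : Subgroup G := mulSub M (P : Subgroup G) hMP
  have hPG₁ : (P : Subgroup G) ≤ G₁ := fun r hr => ⟨1, M.one_mem, r, hr, by simp⟩
  have hMG₁ : M ≤ G₁ := fun m hm => ⟨m, hm, 1, one_mem _, by simp⟩
  obtain ⟨H, hHd⟩ : ∃ H, H = Subgroup.closure ({x * c * x⁻¹, d} : Set G) := ⟨_, rfl⟩
  rw [← hHd] at h
  have hHG₁ : H ≤ G₁ := by
    rw [hHd, Subgroup.closure_le]
    rintro e (rfl | rfl)
    · exact G₁.mul_mem (G₁.mul_mem (hMG₁ hx) (hPG₁ hc)) (G₁.inv_mem (hMG₁ hx))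
    · exact hPG₁ hd
  have hH' : IsPGroup p ↥(H.subgroupOf G₁) := h.of_equiv (Subgroup.subgroupOfEquivOfLe hHG₁).symm
  obtain ⟨Q, hQ⟩ := hH'.exists_le_sylow
  obtain ⟨g, hg⟩ := MulAction.exists_smul_eq G₁ (P.subtype hPG₁) Q
  obtain ⟨y, hy, r, hr, hgyr⟩ := g.2
  have hmemconj : ∀ e ∈ H, y⁻¹ * e * y ∈ (P : Subgroup G) := by
    intro e he
    have h1 : (⟨e, hHG₁ he⟩ : G₁) ∈ (Q : Subgroup G₁) := hQ (Subgroup.mem_subgroupOf.mpr he)
    rw [← hg] at h1
    have h2 : g⁻¹ * ⟨e, hHG₁ he⟩ * g ∈ ((P.subtype hPG₁ : Sylow p G₁) : Subgroup G₁) := by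
      have h3 : (⟨e, hHG₁ he⟩ : G₁) ∈ MulAut.conj g • ((P.subtype hPG₁ : Sylow p G₁) : Subgroup G₁) := h1
      rw [Subgroup.mem_pointwise_smul_iff_inv_smul_mem] at h3
      have h4 : (MulAut.conj g)⁻¹ • (⟨e, hHG₁ he⟩ : G₁) = g⁻¹ * ⟨e, hHG₁ he⟩ * g := by
        show (MulAut.conj g)⁻¹ (⟨e, hHG₁ he⟩ : G₁) = _
        rw [MulAut.conj_inv_apply]
      rwa [h4] at h3
    rw [Sylow.coe_subtype, Subgroup.mem_subgroupOf] at h2
    have h5 : (g.1)⁻¹ * e * g.1 ∈ (P : Subgroup G) := h2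
    rw [hgyr] at h5
    have h6 : y⁻¹ * e * y = r * ((y * r)⁻¹ * e * (y * r)) * r⁻¹ := by group
    rw [h6]
    exact (P : Subgroup G).mul_mem ((P : Subgroup G).mul_mem hr h5) ((P : Subgroup G).inv_mem hr)
  have hd' : y⁻¹ * d * y ∈ (P : Subgroup G) := hmemconj d (by
    rw [hHd]
    exact Subgroup.subset_closure (by simp))
  have hc' : y⁻¹ * (x * c * x⁻¹) * y ∈ (P : Subgroup G) := hmemconj _ (by
    rw [hHd]
    exact Subgroup.subset_closure (by simp))
  refine ⟨y, hy, y⁻¹ * x, M.mul_mem (M.inv_mem hy) hx, by group, ?_, ?_⟩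
  · have h1 : y⁻¹ * (d * y * d⁻¹) ∈ N :=
      N.mul_mem (N.inv_mem (hMN hy)) (hNn.conj_mem _ (hMN hy) d)
    have h2 : y⁻¹ * (d * y * d⁻¹) = (y⁻¹ * d * y) * d⁻¹ := by group
    have h3 : y⁻¹ * (d * y * d⁻¹) = 1 :=
      hdisj _ h1 (by rw [h2]; exact (P : Subgroup G).mul_mem hd' ((P : Subgroup G).inv_mem hd))
    rw [h2, mul_inv_eq_one] at h3
    calc y * d = y * (y⁻¹ * d * y) := by rw [h3]
      _ = d * y := by group
  · obtain ⟨z, hz⟩ : ∃ z, z = y⁻¹ * x := ⟨_, rfl⟩
    rw [← hz]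
    have hzN : z ∈ N := hz ▸ N.mul_mem (N.inv_mem (hMN hy)) (hMN hx)
    have h1 : z * (c * z⁻¹ * c⁻¹) ∈ N := N.mul_mem hzN (hNn.conj_mem _ (N.inv_mem hzN) c)
    have h2 : z * (c * z⁻¹ * c⁻¹) = (y⁻¹ * (x * c * x⁻¹) * y) * c⁻¹ := by
      rw [hz]
      group
    have h3 : z * (c * z⁻¹ * c⁻¹) = 1 :=
      hdisj _ h1 (by rw [h2]; exact (P : Subgroup G).mul_mem hc' ((P : Subgroup G).inv_mem hc))
    have h4 : z * (c * z⁻¹ * c⁻¹) * (c * z) = 1 * (c * z) := by rw [h3]
    have h5 : z * (c * z⁻¹ * c⁻¹) * (c * z) = z * c := by group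
    rw [h5, one_mul] at h4
    exact h4

/-- Conjugation as an action on an invariant subgroup. -/
@[reducible] def conjAct (M P : Subgroup G) (h : ∀ g ∈ P, ∀ m ∈ M, g * m * g⁻¹ ∈ M) :
    MulDistribMulAction ↥P ↥M where
  smul g m := ⟨g.1 * m.1 * g.1⁻¹, h g.1 g.2 m.1 m.2⟩
  one_smul m := Subtype.ext (by
    show (1 : G) * m.1 * (1 : G)⁻¹ = m.1
    group)
  mul_smul a b m := Subtype.ext (by
    show (a.1 * b.1) * m.1 * (a.1 * b.1)⁻¹ = a.1 * (b.1 * m.1 * b.1⁻¹) * a.1⁻¹
    group)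
  smul_mul g x y := Subtype.ext (by
    show g.1 * (x.1 * y.1) * g.1⁻¹ = (g.1 * x.1 * g.1⁻¹) * (g.1 * y.1 * g.1⁻¹)
    group)
  smul_one g := Subtype.ext (by
    show g.1 * (1 : G) * g.1⁻¹ = 1
    group)

theorem centralizes_aux (p : ℕ) [Fact p.Prime] (hp3 : 3 ≤ p) (P : Sylow p G) (N : Subgroup G)
    [hNn : N.Normal] (hN : (Nat.card N).Coprime p) (C D : Set G)
    (hC : Subgroup.closure C = (P : Subgroup G)) (hD : Subgroup.closure D = (P : Subgroup G))
    (h : ∀ x ∈ N, ∀ c ∈ C, ∀ d ∈ D, IsPGroup p ↥(Subgroup.closure ({x * c * x⁻¹, d} : Set G))) :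
    ∀ n, ∀ M : Subgroup G, Nat.card M = n → M ≤ N →
      (∀ g ∈ (P : Subgroup G), ∀ m ∈ M, g * m * g⁻¹ ∈ M) →
      ∀ g ∈ (P : Subgroup G), ∀ m ∈ M, g * m * g⁻¹ = m := by
  classical
  intro n
  induction n using Nat.strong_induction_on with
  | _ n ih =>
    intro M hMn hMN hMP
    letI act : MulDistribMulAction ↥(P : Subgroup G) ↥M := conjAct M (P : Subgroup G) hMP
    have hsmul : ∀ (g : ↥(P : Subgroup G)) (m : ↥M), ((g • m : ↥M) : G) = g.1 * m.1 * g.1⁻¹ :=
      fun _ _ => rfl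
    have hprop : ∀ L : Subgroup ↥M, L ≠ ⊤ → IsInv ↥(P : Subgroup G) L →
        ∀ (γ : ↥(P : Subgroup G)), ∀ t ∈ L, γ • t = t := by
      intro L hL hinv γ t ht
      have hcard : Nat.card (L.map M.subtype) < n := by
        have h1 : Nat.card (L.map M.subtype) = Nat.card L :=
          Nat.card_congr (Subgroup.equivMapOfInjective L M.subtype M.subtype_injective).symm.toEquiv
        rw [h1, ← hMn]
        by_contra h2
        push Not at h2
        apply hL
        exact Subgroup.eq_top_of_card_eq L (le_antisymm (Subgroup.card_le_card_group L) h2)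
      have h2 := ih _ hcard (L.map M.subtype) rfl ((Subgroup.map_subtype_le L).trans hMN) (by
        rintro g hg _ ⟨s, hs, rfl⟩
        exact ⟨(⟨g, hg⟩ : ↥(P : Subgroup G)) • s, hinv _ s hs, rfl⟩)
        γ.1 γ.2 t.1 ⟨t, ht, rfl⟩
      exact Subtype.ext h2
    have hall : ∀ (γ : ↥(P : Subgroup G)) (t : ↥M), γ • t = t := by
      by_cases hq : ∃ q : ℕ, q.Prime ∧ IsPGroup q ↥M
      · obtain ⟨q, hqp, hqM⟩ := hq
        haveI : Fact q.Prime := ⟨hqp⟩
        have hMcop : (Nat.card M).Coprime p :=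
          Nat.Coprime.coprime_dvd_left (Subgroup.card_dvd_of_le hMN) hN
        have hgen : ∀ E : Set G, Subgroup.closure E = (P : Subgroup G) →
            Subgroup.closure (((↑) : ↥(P : Subgroup G) → G) ⁻¹' E) = ⊤ := by
          intro E hE
          have hEP : E ⊆ (P : Subgroup G) := by
            rw [← hE]
            exact Subgroup.subset_closure
          apply Subgroup.map_injective (P : Subgroup G).subtype_injective
          rw [MonoidHom.map_closure]
          have h1 : (P : Subgroup G).subtype '' (((↑) : ↥(P : Subgroup G) → G) ⁻¹' E) = E := by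
            ext u
            constructor
            · rintro ⟨v, hv, rfl⟩
              exact hv
            · intro hu
              exact ⟨⟨u, hEP hu⟩, hu, rfl⟩
          rw [h1, hE, ← MonoidHom.range_eq_map, Subgroup.range_subtype]
        refine thmB p q hp3 P.isPGroup' hqM hMcop hprop _ _ (hgen C hC) (hgen D hD) ?_
        intro c hc d hd x
        have hc' : c.1 ∈ C := hc
        have hd' : d.1 ∈ D := hd
        obtain ⟨y, hy, z, hz, hxyz, hyd, hzc⟩ := factor_in p P N hN M hMN hMP x.1 c.1 d.1 x.2 c.2 d.2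
          (h x.1 (hMN x.2) c.1 hc' d.1 hd')
        refine ⟨⟨y, hy⟩, ⟨z, hz⟩, Subtype.ext hxyz, Subtype.ext ?_, Subtype.ext ?_⟩
        · show d.1 * y * d.1⁻¹ = y
          rw [← hyd]
          group
        · show c.1 * z * c.1⁻¹ = z
          rw [← hzc]
          group
      · push Not at hq
        let F : Subgroup ↥M :=
          { carrier := {t | ∀ γ : ↥(P : Subgroup G), γ • t = t}
            mul_mem' := by
              intro a b ha hb γ
              rw [smul_mul', ha γ, hb γ]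
            one_mem' := fun γ => smul_one γ
            inv_mem' := by
              intro a ha γ
              rw [smul_inv', ha γ] }
        have hFidx : ∀ r : ℕ, r.Prime → ¬ r ∣ F.index := by
          intro r hr
          haveI : Fact r.Prime := ⟨hr⟩
          have hcard : ¬ p ∣ Nat.card (Sylow r ↥M) := by
            let T₀ : Sylow r ↥M := default
            have h1 : Nat.card (Sylow r ↥M) ∣ Nat.card M := by
              have h2 := T₀.card_dvd_index
              exact h2.trans (Subgroup.index_dvd_card _)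
            have h2 : Nat.card M ∣ Nat.card N := Subgroup.card_dvd_of_le hMN
            intro h3
            have h4 := h3.trans (h1.trans h2)
            have h5 := Nat.dvd_gcd h4 (dvd_refl p)
            rw [hN.gcd_eq_one] at h5
            exact (Fact.out : p.Prime).one_lt.ne' (Nat.dvd_one.mp h5)
          obtain ⟨T, hT⟩ := (P.isPGroup').nonempty_fixed_point_of_prime_not_dvd_card (Sylow r ↥M) hcard
          have hne : (T : Subgroup ↥M) ≠ ⊤ := by
            intro htop
            apply hq r hr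
            intro t
            have ht : t ∈ (T : Subgroup ↥M) := by rw [htop]; trivial
            obtain ⟨e, he⟩ := T.isPGroup' ⟨t, ht⟩
            exact ⟨e, by
              have := congrArg Subtype.val he
              simpa using this⟩
          have hinv : IsInv ↥(P : Subgroup G) (T : Subgroup ↥M) := by
            intro γ t ht
            have h1 := hT γ
            have h2 : (γ • T : Sylow r ↥M) = T := h1
            rw [← h2]
            exact ⟨t, ht, rfl⟩
          have hle : (T : Subgroup ↥M) ≤ F := fun t ht γ => hprop _ hne hinv γ t ht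
          have h1 : F.index ∣ (T : Subgroup ↥M).index := Subgroup.index_dvd_of_le hle
          exact fun h2 => T.not_dvd_index (h2.trans h1)
        have hF1 : F.index = 1 := by
          by_contra hne
          obtain ⟨r, hr, hrd⟩ := Nat.exists_prime_and_dvd hne
          exact hFidx r hr hrd
        have hFtop : F = ⊤ := Subgroup.index_eq_one.mp hF1
        intro γ t
        have ht : t ∈ F := by rw [hFtop]; trivial
        exact ht γ
    intro g hg m hm
    have h1 := hall ⟨g, hg⟩ ⟨m, hm⟩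
    exact congrArg Subtype.val h1

end Glevel

end CfsgLib.CoprCore
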