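import Cfsg.Agent.Lib.H9.PSL2Class
import Cfsg.Agent.Lib.H9.PSL2Prod
import Cfsg.Agent.Lib.ClassGeo.SL2Inv

/-! Redundant Sylow subgroups of `SL₂` and `PSL₂`. -/

set_option autoImplicit false
set_option linter.unusedVariables false
set_option linter.style.haveILetI false
set_option linter.unusedSectionVars false
set_option linter.unusedSimpArgs false

namespace CfsgLib.ClassMax.RedSylow

open CfsgLib.H9.SL2Cl CfsgLib.H9.Torus CfsgLib.H9.PSL2 Matrix
open CfsgLib.H9.BorelChar (zS zS_00 zS_01 zS_10 zS_11 zS_central zS_sq)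

section General

variable {G : Type*} [Group G] [Finite G]

theorem rel_card {H K : Subgroup G} (h : H ≤ K) : Nat.card H * H.relIndex K = Nat.card K := by
  have := Subgroup.relIndex_mul_relIndex ⊥ H K bot_le h
  simpa [Subgroup.relIndex_bot_left] using this

/-- Product formula, in divisibility form. -/
theorem card_mul_relIndex_dvd (S T : Subgroup G) (h : T ≤ Subgroup.normalizer (S : Set G)) :
    Nat.card S * S.relIndex T ∣ Nat.card G := by
  let N := Subgroup.normalizer (S : Set G)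
  let S₁ : Subgroup N := S.comap N.subtype
  let T₁ : Subgroup N := T.comap N.subtype
  haveI : S₁.Normal := by
    constructor
    intro n hn g
    have hg := g.2
    show (g : G) * n * (g : G)⁻¹ ∈ S
    exact (Subgroup.mem_normalizer_iff.mp hg n).mp hn
  have h1 : S₁.relIndex (T₁ ⊔ S₁) = S₁.relIndex T₁ := Subgroup.relIndex_sup_right T₁ S₁
  have h2 : S₁.relIndex T₁ = S.relIndex T := by
    rw [Subgroup.relIndex_comap]
    congr 1
    rw [Subgroup.map_comap_eq_self]
    rw [Subgroup.range_subtype]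
    exact h
  have hS : Nat.card S₁ = Nat.card S := by
    apply Nat.card_congr
    refine ⟨fun s => ⟨s.1.1, s.2⟩, fun s => ⟨⟨s.1, Subgroup.le_normalizer s.2⟩, s.2⟩, fun _ => rfl, fun _ => rfl⟩
  have h3 : Nat.card S₁ * S₁.relIndex (T₁ ⊔ S₁) = Nat.card (T₁ ⊔ S₁ : Subgroup N) := by
    exact rel_card le_sup_right
  rw [h1, h2, hS] at h3
  rw [h3]
  exact (Subgroup.card_subgroup_dvd_card _).trans (Subgroup.card_subgroup_dvd_card N)

/-- Fixed point count for a conjugation of prime order. -/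
theorem card_mod_fix (S : Subgroup G) (y : G) (hy : y ∈ Subgroup.normalizer (S : Set G)) (r : ℕ) [hr : Fact r.Prime]
    (hyr : y ^ r = 1) : Nat.card S ≡ Nat.card (S ⊓ Subgroup.centralizer ({y} : Set G) : Subgroup G) [MOD r] := by
  classical
  haveI : Fintype S := Fintype.ofFinite _
  let τ : Function.End S := fun u => ⟨y * u * y⁻¹, (Subgroup.mem_normalizer_iff.mp hy u).mp u.2⟩
  have hτ : ∀ (n : ℕ) (u : S), (((τ ^ n) u : S) : G) = y ^ n * u * (y ^ n)⁻¹ := by
    intro n
    induction n with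
    | zero =>
      intro u
      rw [pow_zero, pow_zero]
      show (u : G) = _
      simp
    | succ n ih =>
      intro u
      rw [pow_succ']
      show y * (((τ ^ n) u : S) : G) * y⁻¹ = _
      rw [ih, pow_succ]
      group
  have hτr : τ ^ r ^ 1 = 1 := by
    funext u
    apply Subtype.ext
    rw [pow_one, hτ, hyr]
    show _ = (u : G)
    simp
  have hmod := Equiv.Perm.card_fixedPoints_modEq (f := τ) (p := r) (n := 1) hτr
  have h1 : Fintype.card S = Nat.card S := (Nat.card_eq_fintype_card).symm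
  have h2 : Nat.card (Function.fixedPoints τ) = Nat.card (S ⊓ Subgroup.centralizer ({y} : Set G) : Subgroup G) := by
    apply Nat.card_congr
    refine ⟨fun v => ⟨v.1.1, v.1.2, ?_⟩, fun v => ⟨⟨v.1, v.2.1⟩, ?_⟩, fun _ => rfl, fun _ => rfl⟩
    · show v.1.1 ∈ Subgroup.centralizer ({y} : Set G)
      rw [Subgroup.mem_centralizer_singleton_iff]
      have h : y * v.1.1 * y⁻¹ = v.1.1 := congrArg Subtype.val v.2
      rw [mul_inv_eq_iff_eq_mul] at h
      exact h.symm
    · have h : v.1 ∈ Subgroup.centralizer ({y} : Set G) := v.2.2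
      rw [Subgroup.mem_centralizer_singleton_iff] at h
      show τ _ = _
      apply Subtype.ext
      show y * v.1 * y⁻¹ = v.1
      rw [mul_inv_eq_iff_eq_mul]
      exact h.symm
  rw [← h2, ← h1, Nat.card_eq_fintype_card]
  exact hmod

end General

variable {F : Type*} [Field F] [Fintype F]

abbrev NS (x : SL2 F) : Prop := ¬ IsSc (SpecialLinearGroup.toGL x)

theorem ns_iff (x : SL2 F) : NS x ↔ x ≠ 1 ∧ x ≠ zS F := by
  unfold NS
  rw [isSc_iff]
  tauto

theorem comm_of_cent {g a b : SL2 F} (hg : NS g) (ha : a * g = g * a) (hb : b * g = g * b) : a * b = b * a := by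
  obtain ⟨c, hc⟩ := exists_conj_10 hg
  have h1 : c * a * c⁻¹ ∈ Subgroup.centralizer ({c * g * c⁻¹} : Set (SL2 F)) := by
    rw [Subgroup.mem_centralizer_singleton_iff]
    calc c * a * c⁻¹ * (c * g * c⁻¹) = c * (a * g) * c⁻¹ := by group
      _ = c * (g * a) * c⁻¹ := by rw [ha]
      _ = _ := by group
  have h2 : c * b * c⁻¹ ∈ Subgroup.centralizer ({c * g * c⁻¹} : Set (SL2 F)) := by
    rw [Subgroup.mem_centralizer_singleton_iff]
    calc c * b * c⁻¹ * (c * g * c⁻¹) = c * (b * g) * c⁻¹ := by group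
      _ = c * (g * b) * c⁻¹ := by rw [hb]
      _ = _ := by group
  have h3 := cent_comm hc h1 h2
  have h4 : c * (a * b) * c⁻¹ = c * (b * a) * c⁻¹ := by
    calc c * (a * b) * c⁻¹ = c * a * c⁻¹ * (c * b * c⁻¹) := by group
      _ = c * b * c⁻¹ * (c * a * c⁻¹) := h3
      _ = _ := by group
  exact mul_left_cancel (mul_right_cancel h4)

theorem cent_sub {x y s : SL2 F} (hy : NS y) (hxy : x * y = y * x) (hs : s * y = y * s) : s * x = x * s :=
  comm_of_cent hy hs hxy

theorem two_ne' (hodd : Odd (Fintype.card F)) : (2 : F) ≠ 0 := two_ne hodd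

theorem z_pow_even (n : ℕ) : zS F ^ (2 * n) = 1 := by
  rw [pow_mul, pow_two, zS_sq, one_pow]

theorem pow_eq_zero_iff_of_ne_zero_aux {a : F} {k : ℕ} (h : a ^ k = 0) : a = 0 :=
  eq_zero_of_pow_eq_zero h

theorem not_tr_two (hodd : Odd (Fintype.card F)) {x : SL2 F} (h1 : x ≠ 1) (ht : trS x = 2) (k : ℕ) : x ^ (2 ^ k) ≠ 1 := by
  intro hk
  obtain ⟨b, hb, hc⟩ := exists_conj_U x ht h1
  obtain ⟨c, hc⟩ := isConj_iff.mp hc
  have h2 : (U b) ^ (2 ^ k) = 1 := by
    rw [← hc, conj_pow, hk]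
    simp
  rw [U_pow] at h2
  have h3 := congrArg (fun g : SL2 F => g.1 0 1) h2
  simp only [U] at h3
  have h4 : ((2 ^ k : ℕ) : F) * b = 0 := by simpa using h3
  rcases mul_eq_zero.mp h4 with h5 | h5
  · have h6 : (2 : F) ^ k = 0 := by simpa using h5
    exact two_ne hodd (pow_eq_zero_iff_of_ne_zero_aux h6)
  · exact hb h5

theorem not_tr_sq (hodd : Odd (Fintype.card F)) {x : SL2 F} (hx : NS x) (k : ℕ) (hk : x ^ (2 ^ k) = 1) :
    trS x ^ 2 ≠ 4 := by
  intro h4
  have h1 : (trS x - 2) * (trS x + 2) = 0 := by linear_combination h4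
  obtain ⟨hx1, hxz⟩ := (ns_iff x).mp hx
  rcases mul_eq_zero.mp h1 with h3 | h3
  · exact not_tr_two hodd hx1 (by linear_combination h3) k hk
  · have ht : trS (zS F * x) = 2 := by
      rw [trS_zS_mul]
      linear_combination -h3
    have hne : zS F * x ≠ 1 := by
      intro h
      apply hxz
      have h4 : zS F * (zS F * x) = zS F := by rw [h, mul_one]
      rwa [← mul_assoc, zS_sq, one_mul] at h4
    refine not_tr_two hodd hne ht (k + 1) ?_
    have hcomm : Commute (zS F) x := zS_central x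
    rw [hcomm.mul_pow, pow_succ', z_pow_even, one_mul, mul_comm, pow_mul, hk, one_pow]

theorem card_T {x : SL2 F} (hx : NS x) (h4 : trS x ^ 2 ≠ 4) :
    Nat.card (Subgroup.centralizer ({x} : Set (SL2 F))) = Fintype.card F - 1 ∨
      Nat.card (Subgroup.centralizer ({x} : Set (SL2 F))) = Fintype.card F + 1 := by
  by_cases hE : Ell x
  · right
    exact cent_card_all hE
  · left
    exact card_cent_reg hx h4 hE

theorem four_dvd (hodd : Odd (Fintype.card F)) {x : SL2 F} (hx : NS x) {k : ℕ} (hk : x ^ (2 ^ k) = 1) :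
    4 ∣ orderOf x := by
  obtain ⟨hx1, hxz⟩ := (ns_iff x).mp hx
  obtain ⟨m, hm, hm2⟩ := (Nat.dvd_prime_pow Nat.prime_two).mp (orderOf_dvd_of_pow_eq_one hk)
  have hxx : x * x ≠ 1 := by
    intro h
    rcases CfsgLib.ClassGeo.SL2Inv.sq_one_cases (two_ne hodd) h with h | h
    · exact hx1 h
    · exact hxz h
  match m, hm2 with
  | 0, hm2 =>
    exfalso
    apply hx1
    simpa using hm2
  | 1, hm2 =>
    exfalso
    apply hxx
    have := pow_orderOf_eq_one x
    rw [hm2, pow_one, pow_two] at this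
    exact this
  | (m + 2), hm2 =>
    rw [hm2, pow_add]
    exact Dvd.intro_left (2 ^ m) (by norm_num)

theorem mem_smul_sylow {G : Type*} [Group G] {p : ℕ} (P : Sylow p G) (g a : G) (ha : a ∈ P) :
    g * a * g⁻¹ ∈ (g • P) := by
  show g * a * g⁻¹ ∈ ((g • P : Sylow p G) : Subgroup G)
  rw [Sylow.coe_subgroup_smul]
  exact Subgroup.smul_mem_pointwise_smul a (MulAut.conj g) _ ha

theorem center_le_sylow (P : Sylow 2 (SL2 F)) : Subgroup.center (SL2 F) ≤ P := by
  have hc : IsPGroup 2 (Subgroup.center (SL2 F)) := by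
    intro g
    refine ⟨1, ?_⟩
    apply Subtype.ext
    rcases (mem_center_iff g.1).mp g.2 with h | h
    · show g.1 ^ 2 ^ 1 = 1
      rw [h]
      simp
    · show g.1 ^ 2 ^ 1 = 1
      rw [h, pow_one, pow_two, zS_sq]
  have h1 := P.is_maximal' (P.isPGroup'.to_sup_of_normal_right hc) le_sup_left
  have h2 : Subgroup.center (SL2 F) ≤ (P : Subgroup _) ⊔ Subgroup.center (SL2 F) := le_sup_right
  rw [show (P : Subgroup (SL2 F)) ⊔ Subgroup.center (SL2 F) = P from h1] at h2
  exact h2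

theorem z_mem_sylow (P : Sylow 2 (SL2 F)) : zS F ∈ P :=
  center_le_sylow P ((mem_center_iff _).mpr (Or.inr rfl))

/-- Lemma A: a non central `2`-element lies in two Sylow subgroups, unless `q ± 1` is a power of two. -/
theorem exists_other (hodd : Odd (Fintype.card F)) (h1 : ¬ ∃ k : ℕ, Fintype.card F + 1 = 2 ^ k)
    (h2 : ¬ ∃ k : ℕ, Fintype.card F = 2 ^ k + 1) {x : SL2 F} (hx : NS x) {k : ℕ} (hk : x ^ (2 ^ k) = 1)
    (S : Sylow 2 (SL2 F)) (hxS : x ∈ S) : ∃ P : Sylow 2 (SL2 F), P ≠ S ∧ x ∈ P := by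
  classical
  by_contra hno
  push Not at hno
  have hq1 : 1 < Fintype.card F := Fintype.one_lt_card
  set T := Subgroup.centralizer ({x} : Set (SL2 F)) with hT
  have hTN : T ≤ Subgroup.normalizer ((S : Subgroup (SL2 F)) : Set (SL2 F)) := by
    intro g hg
    rw [hT, Subgroup.mem_centralizer_singleton_iff] at hg
    have hgS : g • S = S := by
      by_contra hne
      apply hno _ hne
      have := mem_smul_sylow S g x hxS
      rwa [hg, mul_inv_cancel_right] at this
    exact Sylow.smul_eq_iff_mem_normalizer.mp hgS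
  have hxT : x ∈ T := by
    rw [hT, Subgroup.mem_centralizer_singleton_iff]
  have h4 := not_tr_sq hodd hx k hk
  have hT4 : 4 ∣ Nat.card T := (four_dvd hodd hx hk).trans (Subgroup.orderOf_dvd_natCard T hxT)
  have hTc : Nat.card T = Fintype.card F - 1 ∨ Nat.card T = Fintype.card F + 1 := card_T hx h4
  have hT2 : ¬ ∃ m : ℕ, Nat.card T = 2 ^ m := by
    rintro ⟨m, hm⟩
    rcases hTc with h | h
    · apply h2
      exact ⟨m, by omega⟩
    · apply h1
      exact ⟨m, by omega⟩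
  obtain ⟨ℓ, hℓ, hℓd, hℓodd⟩ := (Nat.eq_two_pow_or_exists_odd_prime_and_dvd (Nat.card T)).resolve_left hT2
  haveI : Fact ℓ.Prime := ⟨hℓ⟩
  obtain ⟨y', hy'⟩ := exists_prime_orderOf_dvd_card' ℓ hℓd
  set y : SL2 F := y'.1 with hydef
  have hyT : y ∈ T := y'.2
  have hyord : orderOf y = ℓ := by rw [← hy', hydef, Subgroup.orderOf_coe]
  have hyl : y ^ ℓ = 1 := hyord ▸ pow_orderOf_eq_one y
  have hℓ3 : 3 ≤ ℓ := by
    have := hℓ.two_le
    obtain ⟨t, ht⟩ := hℓodd
    omega
  have hyNS : NS y := by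
    rw [ns_iff]
    constructor
    · intro h
      rw [h, orderOf_one] at hyord
      omega
    · intro h
      have h5 : orderOf y ∣ 2 := orderOf_dvd_of_pow_eq_one (by rw [h, pow_two, zS_sq])
      rw [hyord] at h5
      have := Nat.le_of_dvd (by norm_num) h5
      omega
  have hxy : x * y = y * x := by
    have := hyT
    rw [hT, Subgroup.mem_centralizer_singleton_iff] at this
    exact this.symm
  have hmod := card_mod_fix (S : Subgroup (SL2 F)) y (hTN hyT) ℓ hyl
  have hC : (S : Subgroup (SL2 F)) ⊓ Subgroup.centralizer ({y} : Set (SL2 F)) = (S : Subgroup (SL2 F)) ⊓ T := by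
    ext s
    rw [Subgroup.mem_inf, Subgroup.mem_inf, hT, Subgroup.mem_centralizer_singleton_iff,
      Subgroup.mem_centralizer_singleton_iff]
    constructor
    · rintro ⟨a, b⟩
      exact ⟨a, comm_of_cent hyNS (a := s) (b := x) b hxy⟩
    · rintro ⟨a, b⟩
      exact ⟨a, comm_of_cent hx (a := s) (b := y) b hxy.symm⟩
  rw [hC] at hmod
  set I : Subgroup (SL2 F) := (S : Subgroup (SL2 F)) ⊓ T with hI
  have hIS : Nat.card I * I.relIndex S = Nat.card S := rel_card inf_le_left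
  have hIT : Nat.card I * I.relIndex T = Nat.card T := rel_card inf_le_right
  have hSj : (S : Subgroup (SL2 F)).relIndex T = I.relIndex T := by
    rw [hI, Subgroup.inf_relIndex_right]
  have hprod := card_mul_relIndex_dvd (S : Subgroup (SL2 F)) T hTN
  rw [hSj] at hprod
  have hG := card_SL2_eq (F := F)
  set a := Nat.card I
  set i := I.relIndex S
  set j := I.relIndex T
  have hapos : 0 < a := Nat.card_pos
  have hjpos : 0 < j := by
    rcases Nat.eq_zero_or_pos j with h | h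
    · rw [h, mul_zero] at hIT
      exact absurd hIT.symm (Nat.card_pos.ne')
    · exact h
  obtain ⟨r, hrG, hr2, hr4⟩ : ∃ r, Nat.card (SL2 F) = r * Fintype.card F * Nat.card T ∧ 2 ∣ r ∧ ¬ 4 ∣ r := by
    obtain ⟨t, ht⟩ := hT4
    rcases hTc with h | h
    · refine ⟨Fintype.card F + 1, ?_, by omega, by omega⟩
      rw [hG, h]
      ring
    · refine ⟨Fintype.card F - 1, ?_, by omega, by omega⟩
      rw [hG, h]
      ring
  have hS2 : ∃ n : ℕ, Nat.card S = 2 ^ n := IsPGroup.iff_card.mp S.isPGroup'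
  obtain ⟨n, hn⟩ := hS2
  have hidr : i ∣ r * Fintype.card F := by
    rw [hrG, ← hIS, ← hIT] at hprod
    have : i * (a * j) ∣ r * Fintype.card F * (a * j) := by
      convert hprod using 1
      ring
    exact Nat.dvd_of_mul_dvd_mul_right (Nat.mul_pos hapos hjpos) this
  have hi2 : i ∣ 2 ^ n := by
    rw [← hn, ← hIS]
    exact Dvd.intro_left _ rfl
  obtain ⟨e, he, hei⟩ := (Nat.dvd_prime_pow Nat.prime_two).mp hi2
  have hcop : Nat.Coprime i (Fintype.card F) := by
    rw [hei]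
    exact Nat.Coprime.pow_left _ (Nat.coprime_two_left.mpr hodd)
  have hir : i ∣ r := hcop.dvd_of_dvd_mul_right hidr
  have he1 : e ≤ 1 := by
    by_contra hh
    apply hr4
    refine Dvd.dvd.trans ?_ hir
    rw [hei]
    exact pow_dvd_pow 2 (show 2 ≤ e by omega)
  interval_cases e
  · -- `i = 1`
    have hi1 : i = 1 := by simpa using hei
    have hSa : Nat.card S = a := by rw [← hIS, hi1, mul_one]
    apply S.not_dvd_index
    have h6 := Subgroup.card_mul_index (S : Subgroup (SL2 F))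
    have h7 : Nat.card S * (r * Fintype.card F * j) = Nat.card S * (S : Subgroup (SL2 F)).index := by
      rw [h6, hrG, ← hIT, hSa]
      ring
    have h8 := Nat.eq_of_mul_eq_mul_left Nat.card_pos h7
    rw [← h8]
    exact Dvd.dvd.mul_right (Dvd.dvd.mul_right hr2 _) _
  · -- `i = 2`
    have hi1 : i = 2 := by simpa using hei
    have hSa : Nat.card S = 2 * a := by rw [← hIS, hi1, mul_comm]
    rw [hSa] at hmod
    have h6 : ℓ ∣ a := by
      have h7 := (Nat.modEq_iff_dvd' (show a ≤ 2 * a by omega)).mp hmod.symm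
      have h8 : 2 * a - a = a := by omega
      rwa [h8] at h7
    have h7 : ℓ ∣ 2 ^ n := by
      rw [← hn, hSa]
      exact Dvd.dvd.mul_left h6 _
    have h8 := hℓ.dvd_of_dvd_pow h7
    have := (Nat.prime_dvd_prime_iff_eq hℓ Nat.prime_two).mp h8
    omega

/-- Elements of the centraliser with the same trace. -/
theorem eq_of_trace_gen (h2 : (2 : F) ≠ 0) {g x : SL2 F} (hg : g.1 1 0 ≠ 0) (h4g : trS g ^ 2 ≠ 4)
    (hx : x ∈ Subgroup.centralizer ({g} : Set (SL2 F))) (ht : trS x = trS g) : x = g ∨ x = g⁻¹ := by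
  obtain ⟨z, hz⟩ := (mem_cent_iff hg).mp hx
  have hn : QuadraticAlgebra.norm z = 1 := by
    rw [← det_phi, hz]
    exact x.2
  rw [QuadraticAlgebra.norm_def] at hn
  have htx : 2 * z.re + z.im * trS g = trS g := by
    have e : trS x = 2 * z.re + z.im * trS g := by
      simp only [trS]
      rw [← hz, phi_00, phi_11]
      ring
    exact e.symm.trans ht
  have h4 : (4 - (trS g) ^ 2) * ((z.im - 1) * (z.im + 1)) = 0 := by
    have e : 2 * z.re = trS g - z.im * trS g := by linear_combination htx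
    have h5 : (2 * z.re) * (2 * z.re) + 2 * trS g * (2 * z.re) * z.im + 4 * z.im * z.im = 4 := by
      linear_combination 4 * hn
    rw [e] at h5
    linear_combination h5
  have h6 : 4 - (trS g) ^ 2 ≠ 0 := by
    intro h
    exact h4g (by linear_combination -h)
  rcases mul_eq_zero.mp ((mul_eq_zero.mp h4).resolve_left h6) with h7 | h7
  · left
    have him : z.im = 1 := by linear_combination h7
    have hre : z.re = 0 := by
      rw [him] at htx
      have : 2 * z.re = 0 := by linear_combination htx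
      exact (mul_eq_zero.mp this).resolve_left h2
    apply sl_ext <;> rw [← hz]
    · rw [phi_00, him, hre]; simp
    · rw [phi_01, him]; simp
    · rw [phi_10, him]; simp
    · rw [phi_11, him, hre]; simp
  · right
    have him : z.im = -1 := by linear_combination h7
    have hre : z.re = trS g := by
      rw [him] at htx
      have : 2 * (z.re - trS g) = 0 := by linear_combination htx
      exact sub_eq_zero.mp ((mul_eq_zero.mp this).resolve_left h2)
    apply sl_ext <;> rw [← hz]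
    · rw [phi_00, him, hre, inv_00]; simp [trS]
    · rw [phi_01, him, inv_01]; simp
    · rw [phi_10, him, inv_10]; simp
    · rw [phi_11, him, hre, inv_11]; simp [trS]

theorem trS_conj (c g : SL2 F) : trS (c * g * c⁻¹) = trS g := by
  have hd := det_eq c
  simp only [trS, mul_00, mul_01, mul_10, mul_11, inv_00, inv_01, inv_10, inv_11]
  linear_combination (g.1 0 0 + g.1 1 1) * hd

theorem eq_of_trace_ns (h2 : (2 : F) ≠ 0) {g x : SL2 F} (hg : NS g) (h4g : trS g ^ 2 ≠ 4)
    (hx : x * g = g * x) (ht : trS x = trS g) : x = g ∨ x = g⁻¹ := by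
  obtain ⟨c, hc⟩ := exists_conj_10 hg
  have h1 : c * x * c⁻¹ ∈ Subgroup.centralizer ({c * g * c⁻¹} : Set (SL2 F)) := by
    rw [Subgroup.mem_centralizer_singleton_iff]
    calc c * x * c⁻¹ * (c * g * c⁻¹) = c * (x * g) * c⁻¹ := by group
      _ = c * (g * x) * c⁻¹ := by rw [hx]
      _ = _ := by group
  have h3 := eq_of_trace_gen h2 hc (by rw [trS_conj]; exact h4g) h1 (by rw [trS_conj, trS_conj, ht])
  rcases h3 with h3 | h3
  · left
    exact mul_left_cancel (mul_right_cancel h3)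
  · right
    have h4 : (c * g * c⁻¹)⁻¹ = c * g⁻¹ * c⁻¹ := by group
    rw [h4] at h3
    exact mul_left_cancel (mul_right_cancel h3)

/-- Uniqueness of the Sylow subgroup containing a generator of a self-centralising cyclic torus of
index two in a Sylow subgroup. -/
theorem uniq_sylow (hodd : Odd (Fintype.card F)) {x₀ : SL2 F} {k : ℕ} (hk : 2 ≤ k)
    (hNS : NS x₀) (hcard : Nat.card (Subgroup.centralizer ({x₀} : Set (SL2 F))) = 2 ^ k)
    (hgen : ∀ g, g ∈ Subgroup.centralizer ({x₀} : Set (SL2 F)) → g ∈ Subgroup.zpowers x₀)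
    {m : ℕ} (hm : Odd m) (hG : Nat.card (SL2 F) = 2 ^ (k + 1) * m)
    (P P' : Sylow 2 (SL2 F)) (hP : x₀ ∈ P) (hP' : x₀ ∈ P') : P = P' := by
  classical
  set T := Subgroup.centralizer ({x₀} : Set (SL2 F)) with hT
  have hx₀T : x₀ ∈ T := by rw [hT, Subgroup.mem_centralizer_singleton_iff]
  have hTpow : ∀ g ∈ T, g ^ (2 ^ k) = 1 := by
    intro g hg
    have h5 : orderOf g ∣ Nat.card T := Subgroup.orderOf_dvd_natCard T hg
    rw [hcard] at h5
    exact orderOf_dvd_iff_pow_eq_one.mp h5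
  have h4 : trS x₀ ^ 2 ≠ 4 := not_tr_sq hodd hNS k (hTpow _ hx₀T)
  -- the normaliser of `T` is a `2`-group
  have hN : IsPGroup 2 (Subgroup.normalizer (T : Set (SL2 F))) := by
    intro g
    refine ⟨k + 1, ?_⟩
    apply Subtype.ext
    have hg := g.2
    show (g : SL2 F) ^ 2 ^ (k + 1) = 1
    have h5 : (g : SL2 F) * x₀ * (g : SL2 F)⁻¹ ∈ T := (Subgroup.mem_normalizer_iff.mp hg x₀).mp hx₀T
    replace h5 := Subgroup.mem_centralizer_singleton_iff.mp h5
    have h6 := eq_of_trace_ns (two_ne hodd) hNS h4 h5 (trS_conj _ _)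
    have h7 : (g : SL2 F) ^ 2 ∈ T := by
      refine Subgroup.mem_centralizer_singleton_iff.mpr ?_
      rcases h6 with h6 | h6
      · have e : (g : SL2 F) * x₀ = x₀ * g := by
          rw [mul_inv_eq_iff_eq_mul] at h6
          exact h6
        rw [pow_two, mul_assoc, e, ← mul_assoc, e, mul_assoc]
      · have e : (g : SL2 F) * x₀ = x₀⁻¹ * g := by
          rw [mul_inv_eq_iff_eq_mul] at h6
          exact h6
        have e2 : (g : SL2 F) * x₀⁻¹ = x₀ * g := by
          have e3 : x₀ * ((g : SL2 F) * x₀) = g := by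
            rw [e]
            group
          calc (g : SL2 F) * x₀⁻¹ = x₀ * ((g : SL2 F) * x₀) * x₀⁻¹ := by rw [e3]
            _ = _ := by group
        rw [pow_two, mul_assoc, e, ← mul_assoc, e2, mul_assoc]
    have h8 := hTpow _ h7
    rw [pow_succ', mul_comm, pow_mul]
    rw [← pow_mul, mul_comm, pow_mul] at h8
    exact h8
  -- every Sylow subgroup containing `x₀` is the normaliser
  have key : ∀ P : Sylow 2 (SL2 F), x₀ ∈ P → (P : Subgroup (SL2 F)) = Subgroup.normalizer (T : Set (SL2 F)) := by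
    intro P hP
    have hTP : T ≤ P := by
      intro g hg
      obtain ⟨n, rfl⟩ := Subgroup.mem_zpowers_iff.mp (hgen g hg)
      exact (P : Subgroup (SL2 F)).zpow_mem hP n
    have hidx : T.relIndex P = 1 ∨ T.relIndex P = 2 := by
      have h5 := rel_card hTP
      obtain ⟨n, hn⟩ := IsPGroup.iff_card.mp P.isPGroup'
      have h6 : Nat.card (P : Subgroup (SL2 F)) ∣ 2 ^ (k + 1) * m := by
        rw [← hG]
        exact Subgroup.card_subgroup_dvd_card _
      have hn' : Nat.card (P : Subgroup (SL2 F)) = 2 ^ n := hn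
      rw [hn'] at h6 h5
      have h7 : 2 ^ n ∣ 2 ^ (k + 1) := by
        have hcop : Nat.Coprime (2 ^ n) m := Nat.Coprime.pow_left _ (Nat.coprime_two_left.mpr hm)
        exact hcop.dvd_of_dvd_mul_right h6
      have h8 : n ≤ k + 1 := (Nat.pow_dvd_pow_iff_le_right (by norm_num)).mp h7
      rw [hcard] at h5
      have h9 : 2 ^ k * T.relIndex P ∣ 2 ^ k * 2 := by
        rw [h5, ← pow_succ]
        exact pow_dvd_pow 2 h8
      have h10 := Nat.dvd_of_mul_dvd_mul_left (by positivity) h9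
      rcases (Nat.dvd_prime Nat.prime_two).mp h10 with h | h
      · exact Or.inl h
      · exact Or.inr h
    have hnorm : (T.subgroupOf (P : Subgroup (SL2 F))).Normal := by
      rcases hidx with h | h
      · have h5 : T.subgroupOf (P : Subgroup (SL2 F)) = ⊤ := Subgroup.relIndex_eq_one.mp h |> fun h' => by
          rw [Subgroup.subgroupOf_eq_top]
          exact h'
        rw [h5]
        infer_instance
      · exact Subgroup.normal_of_index_eq_two h
    have hle : (P : Subgroup (SL2 F)) ≤ Subgroup.normalizer (T : Set (SL2 F)) :=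
      (Subgroup.normal_subgroupOf_iff_le_normalizer hTP).mp hnorm
    exact (P.is_maximal' hN hle).symm
  apply Sylow.ext
  rw [key P hP, key P' hP']

theorem ns_of_mem_sylow (p : ℕ) [Fact p.Prime] (hp : p ≠ 2 ∨ zS F = 1) {P : Sylow p (SL2 F)} {g : SL2 F}
    (hg : g ∈ P) (h1 : g ≠ 1) : NS g := by
  rw [ns_iff]
  refine ⟨h1, ?_⟩
  rintro rfl
  rcases hp with hp | hz
  · obtain ⟨k, hk⟩ := P.isPGroup' ⟨zS F, hg⟩
    have hk' : zS F ^ p ^ k = 1 := congrArg Subtype.val hk
    have h5 : orderOf (zS F) ∣ p ^ k := orderOf_dvd_of_pow_eq_one hk'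
    have h6 : orderOf (zS F) ∣ 2 := orderOf_dvd_of_pow_eq_one (by rw [pow_two, zS_sq])
    have hc : Nat.Coprime (p ^ k) 2 :=
      Nat.Coprime.pow_left _ ((Nat.coprime_primes Fact.out Nat.prime_two).mpr hp)
    have h7 : orderOf (zS F) = 1 := Nat.eq_one_of_dvd_coprimes hc h5 h6
    exact h1 (orderOf_eq_one_iff.mp h7)
  · exact h1 hz

theorem sylow_comm (p : ℕ) [Fact p.Prime] (hp : p ≠ 2 ∨ zS F = 1) {P : Sylow p (SL2 F)} {x : SL2 F}
    (hxP : x ∈ P) (hx1 : x ≠ 1) {a b : SL2 F} (ha : a ∈ P) (hb : b ∈ P) : a * b = b * a := by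
  haveI : Nontrivial (P : Subgroup (SL2 F)) :=
    ⟨⟨⟨x, hxP⟩, 1, fun h => hx1 (congrArg Subtype.val h)⟩⟩
  haveI : Nontrivial (Subgroup.center (P : Subgroup (SL2 F))) := P.isPGroup'.center_nontrivial
  obtain ⟨y, hy⟩ := exists_ne (1 : Subgroup.center (P : Subgroup (SL2 F)))
  have hy1 : (y.1.1 : SL2 F) ≠ 1 := by
    intro h
    apply hy
    apply Subtype.ext
    apply Subtype.ext
    exact h
  have hyNS := ns_of_mem_sylow p hp y.1.2 hy1
  have hc : ∀ c (hc : c ∈ (P : Subgroup (SL2 F))), c * y.1.1 = y.1.1 * c := by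
    intro c hc
    have := (Subgroup.mem_center_iff.mp y.2) ⟨c, hc⟩
    exact congrArg Subtype.val this
  exact comm_of_cent hyNS (hc a ha) (hc b hb)

theorem sylow_ti (p : ℕ) [Fact p.Prime] (hp : p ≠ 2 ∨ zS F = 1) {P Q : Sylow p (SL2 F)} {x : SL2 F}
    (hx1 : x ≠ 1) (hxP : x ∈ P) (hxQ : x ∈ Q) : P = Q := by
  have hNS := ns_of_mem_sylow p hp hxP hx1
  have hc : ∀ a ∈ P, ∀ b ∈ Q, a * b = b * a := fun a ha b hb =>
    comm_of_cent hNS (sylow_comm p hp hxP hx1 ha hxP) (sylow_comm p hp hxQ hx1 hb hxQ)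
  have hle : (P : Subgroup (SL2 F)) ≤ Subgroup.normalizer ((Q : Subgroup (SL2 F)) : Set (SL2 F)) := by
    intro a ha
    rw [Subgroup.mem_normalizer_iff]
    intro b
    constructor
    · intro hb
      rw [hc a ha b hb, mul_inv_cancel_right]
      exact hb
    · intro hb
      have h2 := hc a⁻¹ ((P : Subgroup (SL2 F)).inv_mem ha) _ hb
      have h3 : b * a⁻¹ = a * b * a⁻¹ * a⁻¹ := by
        rw [← h2]
        group
      have h4 := mul_right_cancel h3
      rw [h4]
      exact hb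
  have hp' := P.isPGroup'.to_sup_of_normal_right' Q.isPGroup' hle
  have h1 := Q.is_maximal' hp' le_sup_right
  have h2 := P.is_maximal' hp' le_sup_left
  exact Sylow.ext (h2.symm.trans h1)

theorem not_red_ti (p : ℕ) [Fact p.Prime] (hp : p ≠ 2 ∨ zS F = 1) (Q : Sylow p (SL2 F))
    (hQ : ∀ x : SL2 F, (∃ k : ℕ, orderOf x = p ^ k) → ∃ P : Sylow p (SL2 F), P ≠ Q ∧ x ∈ P) : False := by
  by_cases h : ∃ x ∈ Q, x ≠ 1
  · obtain ⟨x, hxQ, hx1⟩ := h
    obtain ⟨k, hk⟩ := IsPGroup.iff_orderOf.mp Q.isPGroup' ⟨x, hxQ⟩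
    rw [Subgroup.orderOf_mk] at hk
    obtain ⟨P, hPQ, hxP⟩ := hQ x ⟨k, hk⟩
    exact hPQ (sylow_ti p hp hx1 hxP hxQ)
  · push Not at h
    obtain ⟨P, hPQ, -⟩ := hQ 1 ⟨0, by simp⟩
    apply hPQ
    have hQb : (Q : Subgroup (SL2 F)) = ⊥ := (Subgroup.eq_bot_iff_forall _).mpr h
    obtain ⟨g, rfl⟩ := MulAction.exists_smul_eq (SL2 F) Q P
    apply Sylow.ext
    rw [Sylow.coe_subgroup_smul, hQb]
    simp

theorem exists_gen (hodd : Odd (Fintype.card F)) {k : ℕ} (hk : 2 ≤ k)
    (h : Fintype.card F + 1 = 2 ^ k ∨ Fintype.card F = 2 ^ k + 1) :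
    ∃ x₀ : SL2 F, NS x₀ ∧ Nat.card (Subgroup.centralizer ({x₀} : Set (SL2 F))) = 2 ^ k ∧
      ∀ g, g ∈ Subgroup.centralizer ({x₀} : Set (SL2 F)) → g ∈ Subgroup.zpowers x₀ := by
  classical
  have hpow : 4 ≤ 2 ^ k := by
    calc 4 = 2 ^ 2 := by norm_num
      _ ≤ 2 ^ k := Nat.pow_le_pow_right (by norm_num) hk
  suffices hs : ∃ d : SL2 F, NS d ∧ IsCyclic (Subgroup.centralizer ({d} : Set (SL2 F))) ∧
      Nat.card (Subgroup.centralizer ({d} : Set (SL2 F))) = 2 ^ k by
    obtain ⟨d, hd, hcyc, hc⟩ := hs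
    obtain ⟨g, hg⟩ := IsCyclic.exists_generator (α := Subgroup.centralizer ({d} : Set (SL2 F)))
    have hgord : orderOf g = 2 ^ k := by
      rw [orderOf_eq_card_of_forall_mem_zpowers hg, hc]
    have hg1 : orderOf g.1 = 2 ^ k := by
      rw [Subgroup.orderOf_coe, hgord]
    have hNS : NS g.1 := by
      rw [ns_iff]
      constructor
      · intro h1
        rw [h1, orderOf_one] at hg1
        omega
      · intro h1
        have h5 : orderOf g.1 ∣ 2 := orderOf_dvd_of_pow_eq_one (by rw [h1, pow_two, zS_sq])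
        rw [hg1] at h5
        have := Nat.le_of_dvd (by norm_num) h5
        omega
    have hgd : g.1 * d = d * g.1 := Subgroup.mem_centralizer_singleton_iff.mp g.2
    have hmem : ∀ h, h ∈ Subgroup.centralizer ({g.1} : Set (SL2 F)) ↔
        h ∈ Subgroup.centralizer ({d} : Set (SL2 F)) := by
      intro h
      rw [Subgroup.mem_centralizer_singleton_iff, Subgroup.mem_centralizer_singleton_iff]
      constructor
      · intro h1
        exact comm_of_cent hNS h1 hgd.symm
      · intro h1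
        exact comm_of_cent hd h1 hgd
    have heq : Subgroup.centralizer ({g.1} : Set (SL2 F)) = Subgroup.centralizer ({d} : Set (SL2 F)) :=
      Subgroup.ext hmem
    refine ⟨g.1, hNS, by rw [heq, hc], ?_⟩
    intro h hh
    obtain ⟨n, hn⟩ := Subgroup.mem_zpowers_iff.mp (hg ⟨h, (hmem h).mp hh⟩)
    refine Subgroup.mem_zpowers_iff.mpr ⟨n, ?_⟩
    have := congrArg Subtype.val hn
    simpa using this
  rcases h with h | h
  · obtain ⟨g, hg⟩ := exists_ell (F := F)
    refine ⟨g, hg.not_sc, cent_cyclic hg, ?_⟩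
    rw [cent_card_all hg, h]
  · have hq : 3 < Fintype.card F := by omega
    obtain ⟨d, hd⟩ := exists_reg hodd hq
    refine ⟨d, not_isSc_of_regDiag hd, hd.cent_cyclic, ?_⟩
    rw [hd.card_cent]
    omega

theorem not_red_B (hodd : Odd (Fintype.card F)) {k : ℕ} (hk : 2 ≤ k)
    (h : Fintype.card F + 1 = 2 ^ k ∨ Fintype.card F = 2 ^ k + 1) (Q : Sylow 2 (SL2 F))
    (hQ : ∀ x : SL2 F, (∃ j : ℕ, orderOf x = 2 ^ j) → ∃ P : Sylow 2 (SL2 F), P ≠ Q ∧ x ∈ P) : False := by
  classical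
  obtain ⟨x₀, hNS, hcard, hgen⟩ := exists_gen hodd hk h
  obtain ⟨t, ht⟩ : ∃ t, 2 ^ k = 4 * t := by
    refine ⟨2 ^ (k - 2), ?_⟩
    conv_lhs => rw [show k = 2 + (k - 2) by omega, pow_add]
    norm_num
  have htpos : 0 < t := by
    have : 0 < 2 ^ k := by positivity
    omega
  obtain ⟨m, hm, hG⟩ : ∃ m, Odd m ∧ Nat.card (SL2 F) = 2 ^ (k + 1) * m := by
    rw [card_SL2_eq, pow_succ, ht]
    rcases h with h | h
    · rw [ht] at h
      refine ⟨Fintype.card F * (2 * t - 1), hodd.mul ⟨t - 1, by omega⟩, ?_⟩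
      have h5 : Fintype.card F - 1 = 2 * (2 * t - 1) := by omega
      rw [h5, h]
      ring
    · rw [ht] at h
      refine ⟨Fintype.card F * (2 * t + 1), hodd.mul ⟨t, by omega⟩, ?_⟩
      have h5 : Fintype.card F - 1 = 2 * (2 * t) := by omega
      have h6 : Fintype.card F + 1 = 2 * (2 * t + 1) := by omega
      rw [h5, h6]
      ring
  have huniq := uniq_sylow hodd hk hNS hcard hgen hm hG
  have hx₀T : x₀ ∈ Subgroup.centralizer ({x₀} : Set (SL2 F)) := Subgroup.mem_centralizer_singleton_iff.mpr rfl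
  have hx₀k : x₀ ^ 2 ^ k = 1 := by
    have h5 := Subgroup.orderOf_dvd_natCard _ hx₀T
    rw [hcard] at h5
    exact orderOf_dvd_iff_pow_eq_one.mp h5
  have hzp : IsPGroup 2 (Subgroup.zpowers x₀) := by
    intro g
    obtain ⟨n, hn⟩ := Subgroup.mem_zpowers_iff.mp g.2
    refine ⟨k, ?_⟩
    apply Subtype.ext
    show g.1 ^ 2 ^ k = 1
    rw [← hn, ← zpow_natCast, ← _root_.zpow_mul, mul_comm, _root_.zpow_mul, zpow_natCast, hx₀k, _root_.one_zpow]
  obtain ⟨P₀, hP₀⟩ := hzp.exists_le_sylow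
  have hx₀P₀ : x₀ ∈ P₀ := hP₀ (Subgroup.mem_zpowers x₀)
  obtain ⟨c, hc⟩ := MulAction.exists_smul_eq (SL2 F) P₀ Q
  have hx' : c * x₀ * c⁻¹ ∈ Q := by
    rw [← hc]
    exact mem_smul_sylow P₀ c x₀ hx₀P₀
  have hord : ∃ j : ℕ, orderOf (c * x₀ * c⁻¹) = 2 ^ j := by
    have h5 : (c * x₀ * c⁻¹) ^ 2 ^ k = 1 := by
      rw [conj_pow, hx₀k]
      simp
    obtain ⟨j, -, hj⟩ := (Nat.dvd_prime_pow Nat.prime_two).mp (orderOf_dvd_of_pow_eq_one h5)
    exact ⟨j, hj⟩
  obtain ⟨P, hPQ, hxP⟩ := hQ _ hord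
  have h5 := mem_smul_sylow P c⁻¹ _ hxP
  have h6 : c⁻¹ * (c * x₀ * c⁻¹) * c⁻¹⁻¹ = x₀ := by group
  rw [h6] at h5
  have he : c⁻¹ • P = P₀ := huniq _ _ h5 hx₀P₀
  apply hPQ
  rw [← hc, ← he, smul_inv_smul]

theorem z_eq_one_of_even (h : ¬ Odd (Fintype.card F)) : zS F = 1 := by
  have hc : ringChar F = 2 := FiniteField.even_card_iff_char_two.mpr (by
    rw [Nat.not_odd_iff] at h
    exact h)
  haveI : CharP F 2 := hc ▸ ringChar.charP F
  apply sl_ext
  · rw [zS_00, CharTwo.neg_eq]; simp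
  · rw [zS_01]; simp
  · rw [zS_10]; simp
  · rw [zS_11, CharTwo.neg_eq]; simp

theorem exists_ns_mem (hodd : Odd (Fintype.card F)) (Q : Sylow 2 (SL2 F)) : ∃ x ∈ Q, NS x := by
  classical
  by_contra hno
  push Not at hno
  have hsub : ((Q : Subgroup (SL2 F)) : Set (SL2 F)) ⊆ {1, zS F} := by
    intro x hx
    have h5 : ¬ NS x := not_not.mpr (hno x hx)
    rw [ns_iff] at h5
    by_cases h6 : x = 1
    · left
      exact h6
    · right
      by_contra h7
      exact h5 ⟨h6, h7⟩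
  have h4 : 4 ∣ Nat.card (SL2 F) := by
    obtain ⟨t, ht⟩ := hodd
    have hq1 : 1 < Fintype.card F := Fintype.one_lt_card
    rw [card_SL2_eq, ht]
    have h5 : 2 * t + 1 - 1 = 2 * t := by omega
    rw [h5]
    refine ⟨(t + 1) * ((2 * t + 1) * t), ?_⟩
    ring
  have h5 : 2 ^ 2 ∣ Nat.card Q := Q.pow_dvd_card_of_pow_dvd_card h4
  have h6 : 4 ≤ Nat.card Q := Nat.le_of_dvd Nat.card_pos h5
  have h7 : Nat.card ((Q : Subgroup (SL2 F)) : Set (SL2 F)) ≤ 2 := by
    rw [Nat.card_coe_set_eq]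
    calc _ ≤ ({1, zS F} : Set (SL2 F)).ncard := Set.ncard_le_ncard hsub (Set.toFinite _)
      _ ≤ 2 := by
        refine (Set.ncard_insert_le _ _).trans ?_
        rw [Set.ncard_singleton]
  have h8 : Nat.card Q = Nat.card ((Q : Subgroup (SL2 F)) : Set (SL2 F)) := rfl
  omega

/-- The criterion for `SL₂`. -/
theorem main_SL2 (p : ℕ) [Fact p.Prime] :
    (∃ Q : Sylow p (SL2 F), ∀ x : SL2 F, (∃ k : ℕ, orderOf x = p ^ k) → ∃ P : Sylow p (SL2 F), P ≠ Q ∧ x ∈ P) ↔
      (p = 2 ∧ (¬ ∃ k : ℕ, Fintype.card F + 1 = 2 ^ k) ∧ (¬ ∃ k : ℕ, Fintype.card F = 2 ^ k) ∧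
        ¬ ∃ k : ℕ, Fintype.card F = 2 ^ k + 1) := by
  have hq1 : 1 < Fintype.card F := Fintype.one_lt_card
  constructor
  · rintro ⟨Q, hQ⟩
    have hp : p = 2 := by
      by_contra hp
      exact not_red_ti p (Or.inl hp) Q hQ
    subst hp
    have hodd : Odd (Fintype.card F) := by
      by_contra hev
      exact not_red_ti 2 (Or.inr (z_eq_one_of_even hev)) Q hQ
    obtain ⟨t, ht⟩ := hodd
    have hodd' : Odd (Fintype.card F) := ⟨t, ht⟩
    refine ⟨rfl, ?_, ?_, ?_⟩
    · rintro ⟨k, hk⟩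
      have hk2 : 2 ≤ k := by
        by_contra h
        have : k = 0 ∨ k = 1 := by omega
        rcases this with rfl | rfl <;> omega
      exact not_red_B hodd' hk2 (Or.inl hk) Q hQ
    · rintro ⟨k, hk⟩
      have hk0 : k ≠ 0 := by
        rintro rfl
        omega
      obtain ⟨j, rfl⟩ := Nat.exists_eq_succ_of_ne_zero hk0
      rw [pow_succ] at hk
      omega
    · rintro ⟨k, hk⟩
      by_cases hk2 : 2 ≤ k
      · exact not_red_B hodd' hk2 (Or.inr hk) Q hQ
      · have : k = 0 ∨ k = 1 := by omega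
        rcases this with rfl | rfl
        · omega
        · exact not_red_B hodd' (k := 2) le_rfl (Or.inl (by omega)) Q hQ
  · rintro ⟨rfl, h1, h2, h3⟩
    have hodd : Odd (Fintype.card F) := by
      by_contra hev
      apply h2
      have hc : ringChar F = 2 := FiniteField.even_card_iff_char_two.mpr (by
        rw [Nat.not_odd_iff] at hev
        exact hev)
      haveI : CharP F 2 := hc ▸ ringChar.charP F
      obtain ⟨n, -, hn⟩ := FiniteField.card F 2
      exact ⟨n, hn⟩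
    obtain ⟨Q⟩ : Nonempty (Sylow 2 (SL2 F)) := inferInstance
    refine ⟨Q, fun x hx => ?_⟩
    obtain ⟨k, hk⟩ := hx
    have hk' : x ^ 2 ^ k = 1 := hk ▸ pow_orderOf_eq_one x
    by_cases hxQ : x ∈ Q
    · by_cases hNS : NS x
      · exact exists_other hodd h1 h3 hNS hk' Q hxQ
      · obtain ⟨x', hx'Q, hx'⟩ := exists_ns_mem hodd Q
        obtain ⟨k', hk'2⟩ := Q.isPGroup' ⟨x', hx'Q⟩
        have hk'3 : x' ^ 2 ^ k' = 1 := congrArg Subtype.val hk'2
        obtain ⟨P, hPQ, -⟩ := exists_other hodd h1 h3 hx' hk'3 Q hx'Q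
        refine ⟨P, hPQ, ?_⟩
        apply center_le_sylow P
        rw [mem_center_iff]
        rw [ns_iff] at hNS
        by_cases h6 : x = 1
        · exact Or.inl h6
        · right
          by_contra h7
          exact hNS ⟨h6, h7⟩
    · have hzp : IsPGroup 2 (Subgroup.zpowers x) := by
        intro g
        obtain ⟨n, hn⟩ := Subgroup.mem_zpowers_iff.mp g.2
        refine ⟨k, ?_⟩
        apply Subtype.ext
        show g.1 ^ 2 ^ k = 1
        rw [← hn, ← zpow_natCast, ← _root_.zpow_mul, mul_comm, _root_.zpow_mul, zpow_natCast, hk', _root_.one_zpow]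
      obtain ⟨P, hP⟩ := hzp.exists_le_sylow
      have hxP : x ∈ P := hP (Subgroup.mem_zpowers x)
      exact ⟨P, fun h => hxQ (h ▸ hxP), hxP⟩

theorem transfer1 (p : ℕ) [Fact p.Prime]
    (h : ∃ Q : Sylow p (ProjectiveSpecialLinearGroup (Fin 2) F), ∀ x : ProjectiveSpecialLinearGroup (Fin 2) F,
      (∃ k : ℕ, orderOf x = p ^ k) → ∃ P : Sylow p (ProjectiveSpecialLinearGroup (Fin 2) F), P ≠ Q ∧ x ∈ P) :
    ∃ Q : Sylow p (SL2 F), ∀ x : SL2 F, (∃ k : ℕ, orderOf x = p ^ k) → ∃ P : Sylow p (SL2 F), P ≠ Q ∧ x ∈ P := by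
  obtain ⟨Qh, hQ⟩ := h
  obtain ⟨Q, rfl⟩ := Sylow.mapSurjective_surjective (prH_surj (F := F)) p Qh
  refine ⟨Q, fun x hx => ?_⟩
  obtain ⟨k, hk⟩ := hx
  have hxk : x ^ p ^ k = 1 := hk ▸ pow_orderOf_eq_one x
  have h1 : ∃ j : ℕ, orderOf (prH x) = p ^ j := by
    have h5 : (prH x) ^ p ^ k = 1 := by rw [← map_pow, hxk, map_one]
    obtain ⟨j, -, hj⟩ := (Nat.dvd_prime_pow Fact.out).mp (orderOf_dvd_of_pow_eq_one h5)
    exact ⟨j, hj⟩
  obtain ⟨Ph, hne, hmem⟩ := hQ (prH x) h1
  obtain ⟨P, rfl⟩ := Sylow.mapSurjective_surjective (prH_surj (F := F)) p Ph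
  refine ⟨P, fun h => hne (by rw [h]), ?_⟩
  have hmem' : prH x ∈ (P : Subgroup (SL2 F)).map prH := hmem
  obtain ⟨s, hs, hsx⟩ := Subgroup.mem_map.mp hmem'
  rcases (pr_eq_iff s x).mp hsx with rfl | hz
  · exact hs
  · by_cases hz1 : zS F = 1
    · rw [hz, hz1, one_mul] at hs
      exact hs
    · have hp2 : p = 2 := by
        by_contra hp2
        obtain ⟨i, hi⟩ := P.isPGroup' ⟨s, hs⟩
        have hi' : s ^ p ^ i = 1 := congrArg Subtype.val hi
        have hs' : zS F ^ (p ^ i * p ^ k) = 1 := by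
          have hcomm : Commute (zS F) x := zS_central x
          have h5 : (zS F * x) ^ (p ^ i * p ^ k) = 1 := by
            rw [← hz, pow_mul, hi', one_pow]
          rw [hcomm.mul_pow, mul_comm (p ^ i), pow_mul x, hxk, one_pow, mul_one] at h5
          rw [mul_comm]
          exact h5
        have h6 : orderOf (zS F) ∣ 2 := orderOf_dvd_of_pow_eq_one (by rw [pow_two, zS_sq])
        have hc : Nat.Coprime (p ^ i * p ^ k) 2 := Nat.Coprime.mul_left
          (Nat.Coprime.pow_left _ ((Nat.coprime_primes Fact.out Nat.prime_two).mpr hp2))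
          (Nat.Coprime.pow_left _ ((Nat.coprime_primes Fact.out Nat.prime_two).mpr hp2))
        have h7 : orderOf (zS F) = 1 := Nat.eq_one_of_dvd_coprimes hc (orderOf_dvd_of_pow_eq_one hs') h6
        exact hz1 (orderOf_eq_one_iff.mp h7)
      subst hp2
      have hxe : x = zS F * s := by
        rw [hz, ← mul_assoc, zS_sq, one_mul]
      rw [hxe]
      exact (P : Subgroup (SL2 F)).mul_mem (z_mem_sylow P) hs

theorem transfer2
    (h : ∃ Q : Sylow 2 (SL2 F), ∀ x : SL2 F, (∃ k : ℕ, orderOf x = 2 ^ k) → ∃ P : Sylow 2 (SL2 F), P ≠ Q ∧ x ∈ P) :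
    ∃ Q : Sylow 2 (ProjectiveSpecialLinearGroup (Fin 2) F), ∀ x : ProjectiveSpecialLinearGroup (Fin 2) F,
      (∃ k : ℕ, orderOf x = 2 ^ k) → ∃ P : Sylow 2 (ProjectiveSpecialLinearGroup (Fin 2) F), P ≠ Q ∧ x ∈ P := by
  obtain ⟨Q, hQ⟩ := h
  refine ⟨Q.mapSurjective (prH_surj (F := F)), fun xh hxh => ?_⟩
  obtain ⟨x, rfl⟩ := prH_surj xh
  obtain ⟨k, hk⟩ := hxh
  have h1 : ∃ j : ℕ, orderOf x = 2 ^ j := by
    have h5 : (prH x) ^ 2 ^ k = 1 := hk ▸ pow_orderOf_eq_one (prH x)
    have h6 : pr (x ^ 2 ^ k) = 1 := by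
      rw [← prH_apply, map_pow]
      exact h5
    have h7 : x ^ 2 ^ (k + 1) = 1 := by
      rcases (pr_eq_one_iff _).mp h6 with h | h
      · rw [pow_succ, pow_mul, h, one_pow]
      · rw [pow_succ, pow_mul, h, pow_two, zS_sq]
    obtain ⟨j, -, hj⟩ := (Nat.dvd_prime_pow Nat.prime_two).mp (orderOf_dvd_of_pow_eq_one h7)
    exact ⟨j, hj⟩
  obtain ⟨P, hne, hxP⟩ := hQ x h1
  refine ⟨P.mapSurjective (prH_surj (F := F)), ?_, Subgroup.mem_map_of_mem _ hxP⟩
  intro heq
  apply hne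
  have hle : (P : Subgroup (SL2 F)) ≤ Q := by
    intro a ha
    have h5 : prH a ∈ (P : Subgroup (SL2 F)).map prH := Subgroup.mem_map_of_mem _ ha
    have h6 : prH a ∈ (Q : Subgroup (SL2 F)).map prH := by
      have h7 := congrArg (fun R : Sylow 2 (ProjectiveSpecialLinearGroup (Fin 2) F) => (R : Subgroup (ProjectiveSpecialLinearGroup (Fin 2) F))) heq
      simp only [Sylow.coe_mapSurjective] at h7
      rw [← h7]
      exact h5
    obtain ⟨b, hb, hba⟩ := Subgroup.mem_map.mp h6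
    rcases (pr_eq_iff b a).mp hba with rfl | hz
    · exact hb
    · have hae : a = zS F * b := by
        rw [hz, ← mul_assoc, zS_sq, one_mul]
      rw [hae]
      exact (Q : Subgroup (SL2 F)).mul_mem (z_mem_sylow Q) hb
  exact Sylow.ext (P.is_maximal' Q.isPGroup' hle).symm

/-- The criterion for `PSL₂`. -/
theorem main_PSL2 (p : ℕ) [Fact p.Prime] :
    (∃ Q : Sylow p (ProjectiveSpecialLinearGroup (Fin 2) F), ∀ x : ProjectiveSpecialLinearGroup (Fin 2) F,
      (∃ k : ℕ, orderOf x = p ^ k) → ∃ P : Sylow p (ProjectiveSpecialLinearGroup (Fin 2) F), P ≠ Q ∧ x ∈ P) ↔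
      (p = 2 ∧ (¬ ∃ k : ℕ, Fintype.card F + 1 = 2 ^ k) ∧ (¬ ∃ k : ℕ, Fintype.card F = 2 ^ k) ∧
        ¬ ∃ k : ℕ, Fintype.card F = 2 ^ k + 1) := by
  constructor
  · intro h
    exact (main_SL2 p).mp (transfer1 p h)
  · intro h
    have h1 := (main_SL2 p).mpr h
    obtain ⟨rfl, -⟩ := h
    exact transfer2 h1

end CfsgLib.ClassMax.RedSylow
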