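import Mathlib

/-! Zsigmondy's theorem via cyclotomic polynomials. -/

set_option autoImplicit false
set_option linter.unusedVariables false
set_option linter.unusedSimpArgs false

namespace CfsgLib.ClassMax.Zsig

open Polynomial Nat

/-- The value of the cyclotomic polynomial, as an integer. -/
noncomputable def cv (n a : ℕ) : ℤ := (cyclotomic n ℤ).eval (a : ℤ)

theorem cv_cast_real (n a : ℕ) : ((cv n a : ℤ) : ℝ) = (cyclotomic n ℝ).eval (a : ℝ) := by
  rw [← map_cyclotomic_int n ℝ]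
  have := eval_intCast_map (Int.castRingHom ℝ) (cyclotomic n ℤ) (a : ℤ)
  simpa [cv] using this.symm

theorem cv_ge (n a : ℕ) (ha : 2 ≤ a) : ((a : ℤ) - 1) ^ φ n ≤ cv n a := by
  have h1 : (1 : ℝ) < a := by exact_mod_cast (by omega : 1 < a)
  have h2 := sub_one_pow_totient_le_cyclotomic_eval h1 n
  rw [← cv_cast_real] at h2
  exact_mod_cast h2

theorem cv_gt (n a : ℕ) (hn : 2 ≤ n) (ha : 2 ≤ a) : ((a : ℤ) - 1) ^ φ n < cv n a := by
  have h1 : (1 : ℝ) < a := by exact_mod_cast (by omega : 1 < a)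
  have h2 := sub_one_pow_totient_lt_cyclotomic_eval hn h1
  rw [← cv_cast_real] at h2
  exact_mod_cast h2

theorem cv_le (n a : ℕ) (ha : 2 ≤ a) : cv n a ≤ ((a : ℤ) + 1) ^ φ n := by
  have h1 : (1 : ℝ) < a := by exact_mod_cast (by omega : 1 < a)
  have h2 := cyclotomic_eval_le_add_one_pow_totient h1 n
  rw [← cv_cast_real] at h2
  exact_mod_cast h2

theorem cv_pos (n a : ℕ) (hn : 1 ≤ n) (ha : 2 ≤ a) : 0 < cv n a := by
  have h1 := cv_ge n a ha
  have h2 : (0 : ℤ) < ((a : ℤ) - 1) ^ φ n := by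
    apply pow_pos
    have : (2 : ℤ) ≤ a := by exact_mod_cast ha
    omega
  omega

theorem cv_mul_dvd (d n a : ℕ) (h : d ∈ n.properDivisors) : ((a : ℤ) ^ d - 1) * cv n a ∣ (a : ℤ) ^ n - 1 := by
  have h1 := X_pow_sub_one_mul_cyclotomic_dvd_X_pow_sub_one_of_dvd ℤ h
  have h2 := eval_dvd (x := (a : ℤ)) h1
  simpa [cv] using h2

theorem cv_dvd (n a : ℕ) : cv n a ∣ (a : ℤ) ^ n - 1 := by
  have h1 := cyclotomic.dvd_X_pow_sub_one n ℤ
  have h2 := eval_dvd (x := (a : ℤ)) h1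
  simpa [cv] using h2

theorem cv_expand1 {p n : ℕ} (hp : p.Prime) (hdn : p ∣ n) (a : ℕ) : cv (n * p) a = cv n (a ^ p) := by
  have h1 := cyclotomic_expand_eq_cyclotomic hp hdn ℤ
  have h2 := congrArg (eval (a : ℤ)) h1
  rw [expand_eval] at h2
  simp only [cv]
  rw [← h2]
  push_cast
  rfl

theorem cv_expand2 {p n : ℕ} (hp : p.Prime) (hdn : ¬ p ∣ n) (a : ℕ) : cv n (a ^ p) = cv (n * p) a * cv n a := by
  have h1 := cyclotomic_expand_eq_cyclotomic_mul hp hdn ℤ
  have h2 := congrArg (eval (a : ℤ)) h1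
  rw [expand_eval, eval_mul] at h2
  simp only [cv]
  rw [← h2]
  push_cast
  rfl

theorem dvd_iff (r a j : ℕ) (ha : 1 ≤ a) : r ∣ a ^ j - 1 ↔ (a : ZMod r) ^ j = 1 := by
  have h1 : 1 ≤ a ^ j := Nat.one_le_pow _ _ ha
  rw [← ZMod.natCast_eq_zero_iff, Nat.cast_sub h1]
  push_cast
  exact sub_eq_zero

theorem int_dvd_iff (r a j : ℕ) (ha : 1 ≤ a) : (r : ℤ) ∣ (a : ℤ) ^ j - 1 ↔ r ∣ a ^ j - 1 := by
  have h1 : 1 ≤ a ^ j := Nat.one_le_pow _ _ ha
  have : (a : ℤ) ^ j - 1 = ((a ^ j - 1 : ℕ) : ℤ) := by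
    rw [Nat.cast_sub h1]
    push_cast
    rfl
  rw [this]
  exact Int.natCast_dvd_natCast

/-- The local analysis at a prime dividing the cyclotomic value. -/
theorem prime_dvd_cv {n a p : ℕ} (hn : 1 ≤ n) (ha : 2 ≤ a) (hp : p.Prime) (hd : (p : ℤ) ∣ cv n a) :
    ∃ k m, n = p ^ k * m ∧ ¬ p ∣ m ∧ IsPrimitiveRoot (a : ZMod p) m := by
  haveI : Fact p.Prime := ⟨hp⟩
  obtain ⟨k, m, hm, hnm⟩ := Nat.exists_eq_pow_mul_and_not_dvd (by omega : n ≠ 0) p hp.ne_one
  refine ⟨k, m, hnm, hm, ?_⟩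
  haveI : NeZero ((m : ℕ) : ZMod p) := ⟨fun h => hm ((ZMod.natCast_eq_zero_iff _ _).mp h)⟩
  have hroot : (cyclotomic n (ZMod p)).IsRoot (a : ZMod p) := by
    rw [IsRoot.def, ← map_cyclotomic_int n (ZMod p)]
    have h1 := eval_intCast_map (Int.castRingHom (ZMod p)) (cyclotomic n ℤ) (a : ℤ)
    have h2 : ((a : ℤ) : ZMod p) = (a : ZMod p) := by push_cast; rfl
    rw [h2] at h1
    rw [h1]
    exact (ZMod.intCast_zmod_eq_zero_iff_dvd _ _).mpr hd
  rw [hnm] at hroot
  exact isRoot_cyclotomic_prime_pow_mul_iff_of_charP.mp hroot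

/-- The valuation of the cyclotomic value at a non-primitive odd prime. -/
theorem val_le_one {n a p k m : ℕ} (ha : 2 ≤ a) (hp : p.Prime) (hodd : Odd p) (hk : 1 ≤ k) (hn : n = p ^ k * m)
    (hm0 : 1 ≤ m) (hr : IsPrimitiveRoot (a : ZMod p) m) : ¬ ((p : ℤ) ^ 2 ∣ cv n a) := by
  haveI : Fact p.Prime := ⟨hp⟩
  intro h
  set d := p ^ (k - 1) * m with hd
  have hnd : n = d * p := by
    rw [hn, hd]
    obtain ⟨k', rfl⟩ : ∃ k', k = k' + 1 := ⟨k - 1, by omega⟩
    simp only [Nat.add_sub_cancel]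
    ring
  have hdpos : 1 ≤ d := Nat.mul_pos (pow_pos hp.pos _) hm0
  have hprop : d ∈ n.properDivisors := by
    rw [Nat.mem_properDivisors]
    refine ⟨⟨p, hnd⟩, ?_⟩
    rw [hnd]
    have := hp.two_le
    nlinarith
  have hdvd := cv_mul_dvd d n a hprop
  set b := a ^ d with hb
  have hbgt : 1 < b := Nat.one_lt_pow (by omega) (by omega)
  have hpb : p ∣ b - 1 := by
    rw [hb, dvd_iff p a d (by omega)]
    have : m ∣ d := Dvd.intro_left _ rfl
    obtain ⟨c, hc⟩ := this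
    rw [hc, pow_mul, hr.pow_eq_one, one_pow]
  have hpnb : ¬ p ∣ b := by
    intro h2
    have h3 : p ∣ 1 := by
      have := (Nat.dvd_sub h2 hpb)
      have e : b - (b - 1) = 1 := by omega
      rwa [e] at this
    exact hp.one_lt.ne' (Nat.dvd_one.mp h3)
  have hLTE := padicValNat.pow_sub_pow (p := p) (x := b) (y := 1) hodd hbgt (by simpa using hpb) hpnb hp.ne_zero
  rw [one_pow, padicValNat_self, ] at hLTE
  -- the divisibility in `ℕ`
  have hcvpos := cv_pos n a (by rw [hnd]; exact Nat.mul_pos hdpos hp.pos) ha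
  obtain ⟨C, hC⟩ : ∃ C : ℕ, cv n a = C := ⟨(cv n a).toNat, (Int.toNat_of_nonneg hcvpos.le).symm⟩
  have hCpos : C ≠ 0 := by
    rintro rfl
    simp at hC
    omega
  have hN : (b - 1) * C ∣ b ^ p - 1 := by
    have e1 : (a : ℤ) ^ d - 1 = ((b - 1 : ℕ) : ℤ) := by
      rw [Nat.cast_sub hbgt.le, hb]
      push_cast
      rfl
    have e2 : (a : ℤ) ^ n - 1 = ((b ^ p - 1 : ℕ) : ℤ) := by
      have : 1 ≤ b ^ p := Nat.one_le_pow _ _ (by omega)
      rw [Nat.cast_sub this, hb, ← pow_mul, ← hnd]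
      push_cast
      rfl
    rw [e1, e2, hC] at hdvd
    exact_mod_cast hdvd
  have hp2 : p ^ 2 ∣ C := by
    rw [hC] at h
    exact_mod_cast h
  have hb1 : b - 1 ≠ 0 := by omega
  have hne : b ^ p - 1 ≠ 0 := by
    have : 1 < b ^ p := Nat.one_lt_pow hp.ne_zero hbgt
    omega
  have hval := (padicValNat_dvd_iff_le (p := p) hne (n := padicValNat p (b - 1) + 2)).mp (by
    refine Dvd.dvd.trans ?_ hN
    rw [pow_add]
    exact mul_dvd_mul pow_padicValNat_dvd hp2)
  omega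

/-- If no prime divisor of `cv` is primitive, all the prime divisors coincide. -/
theorem nonprim_data {n a : ℕ} (hn : 2 ≤ n) (ha : 2 ≤ a)
    (hno : ∀ r : ℕ, r.Prime → r ∣ a ^ n - 1 → ∃ j, 0 < j ∧ j < n ∧ r ∣ a ^ j - 1) {p : ℕ} (hp : p.Prime) (hd : (p : ℤ) ∣ cv n a) :
    ∃ k m, 1 ≤ k ∧ 1 ≤ m ∧ n = p ^ k * m ∧ ¬ p ∣ m ∧ IsPrimitiveRoot (a : ZMod p) m ∧ m ∣ p - 1 := by
  haveI : Fact p.Prime := ⟨hp⟩
  obtain ⟨k, m, hnm, hm, hr⟩ := prime_dvd_cv (by omega) ha hp hd
  have hm0 : 1 ≤ m := by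
    rcases Nat.eq_zero_or_pos m with h | h
    · subst h
      exact absurd (dvd_zero p) hm
    · exact h
  have hk : 1 ≤ k := by
    by_contra hk0
    have : k = 0 := by omega
    subst this
    simp only [pow_zero, one_mul] at hnm
    subst hnm
    have h1 : p ∣ a ^ n - 1 := by
      rw [← int_dvd_iff _ _ _ (by omega)]
      exact hd.trans (cv_dvd n a)
    obtain ⟨j, hj0, hjn, hj⟩ := hno p hp h1
    rw [dvd_iff _ _ _ (by omega)] at hj
    exact hr.pow_ne_one_of_pos_of_lt hj0.ne' hjn hj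
  refine ⟨k, m, hk, hm0, hnm, hm, hr, ?_⟩
  apply hr.dvd_of_pow_eq_one
  apply ZMod.pow_card_sub_one_eq_one
  intro h0
  have := hr.pow_eq_one
  rw [h0, zero_pow (by omega)] at this
  exact zero_ne_one this

theorem three_mul_lt (P : ℕ) (hP : 5 ≤ P) : 3 * P + 1 < 2 ^ P := by
  induction P, hP using Nat.le_induction with
  | base => norm_num
  | succ n hn ih =>
    rw [pow_succ]
    omega

theorem totient_ge {P n : ℕ} (hP : P.Prime) (hd : P ∣ n) (hn : 1 ≤ n) : P - 1 ≤ φ n := by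
  have h1 := Nat.totient_dvd_of_dvd hd
  rw [Nat.totient_prime hP] at h1
  exact Nat.le_of_dvd (Nat.totient_pos.mpr hn) h1

/-- Zsigmondy's theorem. -/
theorem zsigmondy (a n : ℕ) (ha : 1 < a) (hn : 1 < n) (h6 : ¬ (a = 2 ∧ n = 6)) (h2 : ¬ (n = 2 ∧ ∃ m : ℕ, a + 1 = 2 ^ m)) :
    ∃ r : ℕ, r.Prime ∧ r ∣ a ^ n - 1 ∧ ∀ k : ℕ, 0 < k → k < n → ¬ r ∣ a ^ k - 1 := by
  by_contra hno
  push Not at hno
  have hno' : ∀ r : ℕ, r.Prime → r ∣ a ^ n - 1 → ∃ j, 0 < j ∧ j < n ∧ r ∣ a ^ j - 1 := hno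
  by_cases hn2 : n = 2
  · subst hn2
    rcases Nat.eq_two_pow_or_exists_odd_prime_and_dvd (a + 1) with ⟨k, hk⟩ | ⟨r, hr, hrd, hro⟩
    · exact h2 ⟨rfl, k, hk⟩
    · have e : a ^ 2 - 1 = (a - 1) * (a + 1) := by
        obtain ⟨b, rfl⟩ : ∃ b, a = b + 1 := ⟨a - 1, by omega⟩
        simp only [Nat.add_sub_cancel]
        have : (b + 1) ^ 2 = b * (b + 1 + 1) + 1 := by ring
        omega
      obtain ⟨j, hj0, hj2, hj⟩ := hno' r hr (by rw [e]; exact Dvd.dvd.mul_left hrd _)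
      have hj1 : j = 1 := by omega
      subst hj1
      rw [pow_one] at hj
      have h3 : r ∣ 2 := by
        have := Nat.dvd_sub hrd hj
        have e2 : a + 1 - (a - 1) = 2 := by omega
        rwa [e2] at this
      have h4 : r = 2 := (Nat.prime_dvd_prime_iff_eq hr Nat.prime_two).mp h3
      subst h4
      exact absurd hro (by decide)
  have hn3 : 3 ≤ n := by omega
  have ha2 : 2 ≤ a := ha
  -- the cyclotomic value as a natural number
  have hcvgt := cv_gt n a (by omega) ha2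
  have hcvpos := cv_pos n a (by omega) ha2
  obtain ⟨C, hC⟩ : ∃ C : ℕ, cv n a = C := ⟨(cv n a).toNat, (Int.toNat_of_nonneg hcvpos.le).symm⟩
  have hC2 : 2 ≤ C := by
    have h1 : (1 : ℤ) ≤ ((a : ℤ) - 1) ^ φ n := by
      apply one_le_pow₀
      have : (2 : ℤ) ≤ a := by exact_mod_cast ha2
      omega
    have h3 : (2 : ℤ) ≤ C := by
      rw [hC] at hcvgt
      omega
    exact_mod_cast h3
  have hCd : ∀ q : ℕ, q ∣ C → (q : ℤ) ∣ cv n a := by
    intro q hq
    rw [hC]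
    exact_mod_cast hq
  set P := C.minFac with hPdef
  have hP : P.Prime := Nat.minFac_prime (by omega)
  have hPC : P ∣ C := Nat.minFac_dvd C
  haveI : Fact P.Prime := ⟨hP⟩
  obtain ⟨k, m, hk, hm1, hnm, hPm, hr, hmP⟩ := nonprim_data (by omega) ha2 hno' hP (hCd P hPC)
  -- every prime divisor is `P`
  have huniq : ∀ {q : ℕ}, q.Prime → q ∣ C → q = P := by
    intro q hq hqC
    obtain ⟨k', m', hk', hm1', hnm', hqm', hr', hmq'⟩ := nonprim_data (by omega) ha2 hno' hq (hCd q hqC)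
    by_contra hne
    have h1 : q ∣ P ^ k * m := by
      rw [← hnm, hnm']
      exact Dvd.dvd.mul_right (dvd_pow_self q (by omega)) _
    have h3 : P ∣ q ^ k' * m' := by
      rw [← hnm', hnm]
      exact Dvd.dvd.mul_right (dvd_pow_self P (by omega)) _
    have h4 : q ∣ m := by
      rcases (Nat.Prime.dvd_mul hq).mp h1 with h5 | h5
      · exact absurd ((Nat.prime_dvd_prime_iff_eq hq hP).mp (hq.dvd_of_dvd_pow h5)) hne
      · exact h5
    have h5 : P ∣ m' := by
      rcases (Nat.Prime.dvd_mul hP).mp h3 with h6 | h6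
      · exact absurd ((Nat.prime_dvd_prime_iff_eq hP hq).mp (hP.dvd_of_dvd_pow h6)).symm hne
      · exact h6
    have h6 : q ≤ m := Nat.le_of_dvd hm1 h4
    have h7 : m ≤ P - 1 := Nat.le_of_dvd (by have := hP.one_lt; omega) hmP
    have h8 : P ≤ m' := Nat.le_of_dvd hm1' h5
    have h9 : m' ≤ q - 1 := Nat.le_of_dvd (by have := hq.one_lt; omega) hmq'
    have := hP.pos
    have := hq.pos
    omega
  have hpow := Nat.eq_prime_pow_of_unique_prime_dvd (by omega : C ≠ 0) huniq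
  set s := C.primeFactorsList.length with hs
  have hPn : P ∣ n := by
    rw [hnm]
    exact Dvd.dvd.mul_right (dvd_pow_self P (by omega)) _
  -- the case `P = 2`
  by_cases hP2 : P = 2
  · have hm1' : m = 1 := by
      rw [hP2] at hmP
      exact Nat.dvd_one.mp hmP
    rw [hm1', mul_one, hP2] at hnm
    obtain ⟨k', rfl⟩ : ∃ k', k = k' + 1 := ⟨k - 1, by omega⟩
    obtain ⟨k'', rfl⟩ : ∃ k'', k' = k'' + 1 := by
      refine ⟨k' - 1, ?_⟩
      rcases k' with _ | k'
      · simp at hnm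
        omega
      · simp
    have hval : cv n a = 1 + ((a ^ (2 ^ k'')) ^ 2 : ℕ) := by
      rw [hnm]
      simp only [cv]
      rw [cyclotomic_prime_pow_eq_geom_sum Nat.prime_two]
      simp [Finset.sum_range_succ, eval_add]
      ring
    set y := a ^ (2 ^ k'') with hy
    have hCy : C = 1 + y ^ 2 := by
      rw [hC] at hval
      exact_mod_cast hval
    have h2C : 2 ∣ C := hP2 ▸ hPC
    have hy2 : y % 4 = 1 ∨ y % 4 = 3 := by
      have h3 : y % 2 = 1 := by
        rcases Nat.even_or_odd y with he | ho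
        · exfalso
          obtain ⟨z, hz⟩ := he
          rw [hCy, hz] at h2C
          have : (1 + (z + z) ^ 2) % 2 = 1 := by
            have : (1 + (z + z) ^ 2) = 2 * (2 * z * z) + 1 := by ring
            omega
          omega
        · exact Nat.odd_iff.mp ho
      omega
    have hmod : C % 4 = 2 := by
      rw [hCy, sq, Nat.add_mod, Nat.mul_mod]
      rcases hy2 with h | h <;> rw [h]
    have hs1 : s ≤ 1 := by
      by_contra hc
      have : 4 ∣ C := by
        rw [hpow, hP2]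
        exact pow_dvd_pow 2 (by omega : 2 ≤ s)
      omega
    have hCle : C ≤ 2 := by
      have h3 : 2 ^ s ≤ 2 ^ 1 := Nat.pow_le_pow_right (by norm_num) hs1
      rw [hpow, hP2]
      simpa using h3
    have hybig : 2 ≤ y := by
      have h3 : a ^ 1 ≤ a ^ (2 ^ k'') := Nat.pow_le_pow_right (by omega) (Nat.one_le_two_pow)
      rw [pow_one] at h3
      omega
    have : 4 ≤ y ^ 2 := by nlinarith
    omega
  -- `P` is odd
  have hodd : Odd P := hP.odd_of_ne_two hP2
  have hCP : C = P := by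
    have hs1 : s ≤ 1 := by
      by_contra hc
      apply val_le_one ha2 hP hodd hk hnm hm1 hr
      rw [hC]
      have : P ^ 2 ∣ C := by
        rw [hpow]
        exact pow_dvd_pow P (by omega : 2 ≤ s)
      exact_mod_cast this
    have h0 : s ≠ 0 := by
      intro h
      rw [h, pow_zero] at hpow
      omega
    have h1 : s = 1 := by omega
    rw [hpow, h1, pow_one]
  have hcvP : cv n a = (P : ℤ) := by rw [hC, hCP]
  have hPltpow : P < 2 ^ P := Nat.lt_two_pow_self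
  by_cases ha3 : 3 ≤ a
  · -- `a ≥ 3`
    have h1 := hcvgt
    rw [hcvP] at h1
    have h3 : (2 : ℤ) ^ (P - 1) ≤ ((a : ℤ) - 1) ^ φ n := by
      have h4 : (2 : ℤ) ≤ (a : ℤ) - 1 := by
        have : (3 : ℤ) ≤ a := by exact_mod_cast ha3
        omega
      calc (2 : ℤ) ^ (P - 1) ≤ ((a : ℤ) - 1) ^ (P - 1) := pow_le_pow_left₀ (by norm_num) h4 _
        _ ≤ ((a : ℤ) - 1) ^ φ n := pow_le_pow_right₀ (by omega) (totient_ge hP hPn (by omega))
    have h4 : P - 1 < 2 ^ (P - 1) := Nat.lt_two_pow_self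
    have h5 : (P : ℤ) ≤ 2 ^ (P - 1) := by
      have : P ≤ 2 ^ (P - 1) := by omega
      exact_mod_cast this
    omega
  have ha2' : a = 2 := by omega
  subst ha2'
  have h2P : 2 ≤ 2 ^ P := by
    have := hP.one_lt
    have := hPltpow
    omega
  by_cases hk1 : k = 1
  · subst hk1
    rw [pow_one, mul_comm] at hnm
    have hexp := cv_expand2 hP hPm 2
    rw [← hnm, hcvP] at hexp
    have hP3 : P ≠ 3 := by
      intro h3
      have hm2 : m ∣ 2 := by
        rw [h3] at hmP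
        exact hmP
      have : m = 1 ∨ m = 2 := (Nat.dvd_prime Nat.prime_two).mp hm2
      rcases this with h1 | h1
      · rw [h1] at hr
        have h4 := (dvd_iff P 2 1 (by norm_num)).mpr hr.pow_eq_one
        norm_num at h4
        exact hP.one_lt.ne' h4
      · rw [h1, h3] at hnm
        exact h6 ⟨rfl, by omega⟩
    have hP5 : 5 ≤ P := by
      have := hP.two_le
      by_contra hc
      have h4 : P ≠ 4 := by
        rintro h
        rw [h] at hP
        exact absurd hP (by decide)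
      omega
    have hlow := cv_ge m (2 ^ P) h2P
    have hup := cv_le m 2 le_rfl
    have hmpos := cv_pos m 2 hm1 le_rfl
    set f := φ m with hf
    have hf1 : 1 ≤ f := Nat.totient_pos.mpr hm1
    have h3 : (((2 ^ P : ℕ) : ℤ) - 1) ^ f ≤ P * (2 + 1) ^ f := by
      calc (((2 ^ P : ℕ) : ℤ) - 1) ^ f ≤ cv m (2 ^ P) := hlow
        _ = P * cv m 2 := hexp
        _ ≤ P * (((2 : ℕ) : ℤ) + 1) ^ f := mul_le_mul_of_nonneg_left hup (by positivity)
        _ = _ := by norm_num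
    have h4 := three_mul_lt P hP5
    have h5 : (3 * (P : ℤ)) ^ f < (((2 ^ P : ℕ) : ℤ) - 1) ^ f := by
      apply pow_lt_pow_left₀ _ (by positivity) (by omega)
      have : ((3 * P + 1 : ℕ) : ℤ) < ((2 ^ P : ℕ) : ℤ) := by exact_mod_cast h4
      push_cast at this ⊢
      omega
    have h6' : (P : ℤ) * 3 ^ f ≤ (3 * (P : ℤ)) ^ f := by
      rw [mul_pow, mul_comm]
      apply mul_le_mul_of_nonneg_left _ (by positivity)
      calc (P : ℤ) = (P : ℤ) ^ 1 := (pow_one _).symm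
        _ ≤ (P : ℤ) ^ f := pow_le_pow_right₀ (by
            have := hP.one_lt
            omega) hf1
    have h7 : ((2 : ℤ) + 1) = 3 := by norm_num
    rw [h7] at h3
    omega
  · -- `P² ∣ n`
    obtain ⟨k', rfl⟩ : ∃ k', k = k' + 2 := ⟨k - 2, by omega⟩
    set d := P ^ (k' + 1) * m with hd
    have hnd : n = d * P := by
      rw [hnm, hd]
      ring
    have hPd : P ∣ d := by
      rw [hd]
      exact Dvd.dvd.mul_right (dvd_pow_self P (by omega)) _
    have hd2 : 2 ≤ d := by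
      have := Nat.le_of_dvd (Nat.mul_pos (pow_pos hP.pos _) hm1) hPd
      have := hP.two_le
      omega
    have hexp := cv_expand1 hP hPd 2
    rw [← hnd, hcvP] at hexp
    have hgt := cv_gt d (2 ^ P) hd2 h2P
    rw [← hexp] at hgt
    have hf1 : 1 ≤ φ d := Nat.totient_pos.mpr (by omega)
    have h3 : (((2 ^ P : ℕ) : ℤ) - 1) ^ 1 ≤ (((2 ^ P : ℕ) : ℤ) - 1) ^ φ d := by
      apply pow_le_pow_right₀ _ hf1
      have : ((2 : ℕ) : ℤ) ≤ ((2 ^ P : ℕ) : ℤ) := by exact_mod_cast h2P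
      push_cast at this ⊢
      omega
    have h4 : (P : ℤ) < ((2 ^ P : ℕ) : ℤ) := by exact_mod_cast hPltpow
    rw [pow_one] at h3
    omega

end CfsgLib.ClassMax.Zsig
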